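import Groth.Agent.Lib.DerComplBij3.Torsion
import Groth.Agent.S11172
import Groth.Agent.S1712

/-!
# Bijectivity of the completion of `RΓ_J(M)` in low degrees
-/

set_option autoImplicit false
set_option linter.style.haveILetI false
universe u

open CategoryTheory CategoryTheory.Limits GrothLib.DualCx22 IsLocalRing PrimeSpectrum

attribute [local instance] HasDerivedCategory.standard

namespace GrothLib.DerComplBij3

variable {A : Type u} [CommRing A] [IsNoetherianRing A] [IsLocalRing A] (I : Ideal A) [IsAdicComplete I A]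

/-- For every `q ∈ V(I)` other than the closed point some element outside `q` acts nilpotently on the low
cohomology of the completion of `RΓ_m M`. -/
theorem exists_notMem_nilpotent [DRing.HasRgammaI I] [DRing.HasRgammaI (maximalIdeal A)]
    [DRing.HasDerivedCompletion I] {ω : Dual.D A} (hω : Dual.IsDualizing A ω) (hn : Dual.IsNormalized A ω)
    (d : ℕ) (hcd : LocCoh.CdLE A I d) (M : Type u) [AddCommGroup M] [Module A M] [Module.Finite A M] (s : ℕ)
    (q : PrimeSpectrum A) (hIq : I ≤ q.asIdeal) (hqm : q.asIdeal ≠ maximalIdeal A)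
    (h4 : ∀ p : PrimeSpectrum A, p ≤ q → ¬ I ≤ p.asIdeal →
      (s : ℕ∞) ≤ LocCoh.depth (Localization.AtPrime p.asIdeal) (LocalizedModule p.asIdeal.primeCompl M) ∨
        (((d + s : ℕ) : ℕ∞) : WithBot ℕ∞) < ((LocCoh.depth (Localization.AtPrime p.asIdeal)
          (LocalizedModule p.asIdeal.primeCompl M) : ℕ∞) : WithBot ℕ∞) + ringKrullDim (A ⧸ p.asIdeal)) :
    ∃ f ∈ maximalIdeal A, f ∉ q.asIdeal ∧ ∀ i : ℤ, i ≤ s → ∀ x : Dual.HD A
      ((DRing.derivedCompletion I).obj ((DRing.RgammaI (maximalIdeal A)).obj (Dual.inD A M))).obj i,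
        ∃ n : ℕ, f ^ n • x = 0 := by
  classical
  have hIm : I ≤ maximalIdeal A := hIq.trans (le_maximalIdeal q.2.ne_top)
  obtain ⟨E, _, _, φ₀, hE⟩ := GrothLib.FaltingsT3.exists_hull A
  have hprimes : ∀ j : ℕ, ∃ (N : ModuleCat.{u} A) (_ : N ≃ₗ[A] (Dual.inD A M ⟶ ω⟦(-(j : ℤ))⟧))
      (S : Finset (PrimeSpectrum A)), (∀ r ∈ S, r ∈ Module.support A N) ∧
      ∀ f ∈ maximalIdeal A, ∀ t : ℤ, (∀ r ∈ S, Cond I f d t r) →
        TV f (gA I) (Dual.inD A (N →ₗ[A] E)) t := fun j => by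
    obtain ⟨N, hN, ⟨e⟩⟩ := exists_finite_hom_equiv hω (Dual.inD A M) (finite_HD_inD M) (-(j : ℤ))
    haveI := hN
    obtain ⟨S, hS⟩ := exists_primes I hE hIm hcd N
    exact ⟨N, e, S, hS⟩
  choose N eN S hS htv using hprimes
  let bad := ((Finset.range (s + d + 1)).biUnion S).filter fun r => ¬ r ≤ q
  have hex : ∀ r : PrimeSpectrum A, ∃ a : A, a ∉ q.asIdeal ∧ (¬ r ≤ q → a ∈ r.asIdeal) := fun r => by
    by_cases hr : r ≤ q
    · exact ⟨1, (Ideal.ne_top_iff_one _).1 q.2.ne_top, fun h => absurd hr h⟩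
    · obtain ⟨a, ha, ha'⟩ := SetLike.not_le_iff_exists.1 (show ¬ r.asIdeal ≤ q.asIdeal from hr)
      exact ⟨a, ha', fun _ => ha⟩
  choose a haq har using hex
  obtain ⟨f₀, hf₀, hf₀q⟩ := SetLike.exists_of_lt (lt_of_le_of_ne (le_maximalIdeal q.2.ne_top) hqm)
  let f := f₀ * ∏ r ∈ bad, a r
  have hfm : f ∈ maximalIdeal A := Ideal.mul_mem_right _ _ hf₀
  have hfq : f ∉ q.asIdeal := fun h => (q.2.mem_or_mem h).elim hf₀q fun h' => by
    obtain ⟨r, -, hr⟩ := q.2.prod_mem_iff.1 h'
    exact haq r hr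
  refine ⟨f, hfm, hfq, fun i hi x => exists_pow_smul_completion I f _ i ?_ x⟩
  let X := (DRing.RgammaI (maximalIdeal A)).obj (Dual.inD A M)
  obtain ⟨b, hb⟩ := GrothLib.LC.exists_cdLE (maximalIdeal A)
  refine TV.of_pieces i (b + 1) X b (fun j hj => ?_) (fun j hj => ?_) fun j => ?_
  · obtain ⟨k, rfl⟩ := Int.eq_ofNat_of_zero_le (show 0 ≤ j by omega)
    haveI := hb M k (by omega)
    obtain ⟨e⟩ := GrothLib.KillCompl3.nonempty_HD_rgamma (maximalIdeal A) M k
    exact e.toEquiv.subsingleton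
  · exact GrothLib.KillCompl3.subsingleton_HD_rgamma_neg (maximalIdeal A) M j (by push_cast at hj; omega)
  · by_cases hj0 : j < 0
    · haveI := GrothLib.KillCompl3.subsingleton_HD_rgamma_neg (maximalIdeal A) M j hj0
      exact TV.of_subsingleton_module _ _
    obtain ⟨k, rfl⟩ := Int.eq_ofNat_of_zero_le (show 0 ≤ j by omega)
    by_cases hk : i - (k : ℤ) < -(d : ℤ)
    · exact tv_of_zero fun ξ => eq_zero_of_lt I hcd _ _ hk ξ
    obtain ⟨e₁⟩ := GrothLib.KillCompl3.nonempty_HD_rgamma (maximalIdeal A) M k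
    obtain ⟨e₂⟩ := Groth.Agent.S11172.result A ω hω hn E φ₀ hE M k
    refine (htv k f hfm _ fun r hr hfr hIr ht _ => ?_).of_module_iso ((e₁.trans e₂).trans ((eN k).symm.congrLeft E A)).symm
    have hksd : k ∈ Finset.range (s + d + 1) := Finset.mem_range.2 (by omega)
    have hrq : r ≤ q := by
      by_contra hrq
      refine hfr (Ideal.mul_mem_left _ _ (Ideal.prod_mem _ ?_ (har r hrq)))
      exact Finset.mem_filter.2 ⟨Finset.mem_biUnion.2 ⟨k, hksd, hr⟩, hrq⟩
    have hdep := (Groth.Agent.S1712.result A ω hω hn M k r).1 ⟨k, le_rfl,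
      Module.support_subset_of_injective (eN k).toLinearMap (eN k).injective (hS k r hr)⟩
    rw [GrothLib.DualRing.ringKrullDim_quotient_eq hω hn r.asIdeal] at hdep ⊢
    refine ⟨_, rfl, ?_, q, hrq, hIq, hqm⟩
    have h4' := h4 r hrq hIr
    rw [GrothLib.DualRing.ringKrullDim_quotient_eq hω hn r.asIdeal] at h4'
    generalize LocCoh.depth (Localization.AtPrime r.asIdeal) (LocalizedModule r.asIdeal.primeCompl M) = δ at h4' hdep
    generalize (-GrothLib.DualRing.deg hω r.asIdeal).toNat = c at h4' hdep ⊢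
    induction δ with
    | top =>
      have h3 : (⊤ : ℕ∞) + (c : ℕ∞) ≤ (k : ℕ∞) := by
        refine WithBot.coe_le_coe.1 ?_
        rw [WithBot.coe_add]
        exact hdep
      rw [top_add, top_le_iff] at h3
      exact absurd h3 (ENat.natCast_ne_top k)
    | coe δ =>
      have h1 : δ + c ≤ k := by exact_mod_cast hdep
      rcases h4' with h | h
      · have h2 : s ≤ δ := by exact_mod_cast h
        omega
      · have h2 : d + s < δ + c := by exact_mod_cast h
        omega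

omit [IsLocalRing A] in
/-- Membership of an element in the radical of an annihilator. -/
theorem isPowerTorsion_of_le_radical {H : Type u} [AddCommGroup H] [Module A H] (J : Ideal A)
    (h : ∀ x : H, J ≤ (Ideal.torsionOf A H x).radical) : LocCoh.IsPowerTorsion J H := fun x => by
  obtain ⟨n, hn⟩ := Ideal.exists_pow_le_of_le_radical_of_fg (h x) (IsNoetherian.noetherian J)
  exact ⟨n, fun a ha => hn ha⟩

theorem exists_ideal_bijective [DRing.HasDerivedCompletion I] (hdc : ∃ ω : Dual.D A, Dual.IsDualizing A ω)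
    (d : ℕ) (hcd : LocCoh.CdLE A I d) (M : Type u) [AddCommGroup M] [Module A M] [Module.Finite A M] (s : ℕ)
    (h4 : ∀ p : PrimeSpectrum A, ¬ I ≤ p.asIdeal →
      (∃ r : PrimeSpectrum A, p ≤ r ∧ I ≤ r.asIdeal ∧ r.asIdeal ≠ maximalIdeal A) →
      (s : ℕ∞) ≤ LocCoh.depth (Localization.AtPrime p.asIdeal) (LocalizedModule p.asIdeal.primeCompl M) ∨
        (((d + s : ℕ) : ℕ∞) : WithBot ℕ∞) < ((LocCoh.depth (Localization.AtPrime p.asIdeal)
          (LocalizedModule p.asIdeal.primeCompl M) : ℕ∞) : WithBot ℕ∞) + ringKrullDim (A ⧸ p.asIdeal)) :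
    ∃ J₀ : Ideal A, zeroLocus (J₀ : Set A) ∩ zeroLocus (I : Set A) = {closedPoint A} ∧
      ∀ (J : Ideal A) [DRing.HasRgammaI J], J ≤ J₀ →
        zeroLocus (J : Set A) ∩ zeroLocus (I : Set A) = {closedPoint A} →
        ∀ i : ℤ, i ≤ s → Function.Bijective ((DerivedCategory.homologyFunctor (ModuleCat.{u} A) i).map
          (DRing.toDerivedCompletion I ((DRing.RgammaI J).obj (Dual.inD A M)))).hom := by
  haveI := hasRgammaI I
  haveI := hasRgammaI (maximalIdeal A)
  obtain ⟨ω₀, hω₀⟩ := hdc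
  let ω := ω₀⟦GrothLib.DualRing.deg hω₀ (maximalIdeal A)⟧
  have hω : Dual.IsDualizing A ω := GrothLib.DualRing.isDualizing_shift hω₀ _
  have hn : Dual.IsNormalized A ω := GrothLib.DualRing.isNormalized_shift hω₀
  have hIm : I ≤ maximalIdeal A :=
    (IsAdicComplete.le_jacobson_bot I).trans (jacobson_eq_maximalIdeal ⊥ bot_ne_top).le
  let D := ((DRing.derivedCompletion I).obj ((DRing.RgammaI (maximalIdeal A)).obj (Dual.inD A M))).obj
  let J₀ : Ideal A := maximalIdeal A ⊓
    ⨅ i : {i : ℤ // i ≤ s}, ⨅ x : Dual.HD A D i.1, (Ideal.torsionOf A _ x).radical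
  refine ⟨J₀, ?_, fun J _ hJ hV i hi => ?_⟩
  · refine Set.Subset.antisymm (fun q ⟨hq, hIq⟩ => ?_) ?_
    · rw [Set.mem_singleton_iff]
      by_contra hne
      have hqm : q.asIdeal ≠ maximalIdeal A := fun h => hne (PrimeSpectrum.ext h)
      obtain ⟨f, hfm, hfq, hf⟩ := exists_notMem_nilpotent I hω hn d hcd M s q hIq hqm
        fun p hpq hIp => h4 p hIp ⟨q, hpq, hIq, hqm⟩
      refine hfq (hq (Submodule.mem_inf.2 ⟨hfm, ?_⟩))
      simp only [Submodule.mem_iInf]
      rintro ⟨i, hi⟩ x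
      obtain ⟨n, hn⟩ := hf i hi x
      exact ⟨n, hn⟩
    · rintro _ rfl
      exact ⟨fun a ha => (Submodule.mem_inf.1 ha).1, hIm⟩
  · have hK : DRing.IsDerivedComplete I (Dual.inD A M) :=
      isDerivedComplete_of_finite I _ (finite_HD_inD M)
    have hrad : (J ⊔ I).radical = maximalIdeal A := by
      rw [← vanishingIdeal_zeroLocus_eq_radical, zeroLocus_sup, hV, vanishingIdeal_singleton]
      rfl
    obtain ⟨e⟩ := nonempty_completion_iso_sup I J (maximalIdeal A)
      ((Ideal.le_radical.trans hrad.le).trans Ideal.le_radical) hrad.ge (Dual.inD A M)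
    refine homology_bijective I J _ hK s (fun j hj => ?_) i hi
    refine GrothLib.RGamma.isPowerTorsion_of_linearEquiv J (GrothLib.RGamma.hdIso e j)
      (isPowerTorsion_of_le_radical J fun x => hJ.trans (inf_le_right.trans ?_))
    exact (iInf_le _ (⟨j, hj⟩ : {i : ℤ // i ≤ s})).trans (iInf_le _ x)

end GrothLib.DerComplBij3
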