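import Groth.Agent.Lib.DualCx22.TorsionDual
import Groth.Agent.Lib.DualRing.LocalizedEH
import Groth.Agent.Lib.DCxRing.Amplitude
import Groth.Agent.Lib.DCxRing.InjAmp
import Groth.Agent.Lib.DCxRHom.HomHtpy
import Mathlib.Algebra.Homology.HomotopyCategory.DegreewiseSplit

/-!
# Maps into duals
-/

set_option autoImplicit false
set_option linter.style.haveILetI false
set_option linter.unusedSectionVars false
universe u

open CategoryTheory CategoryTheory.Limits Pretriangulated GrothLib.DualCx22 GrothLib.DualRing CochainComplex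

attribute [local instance] HasDerivedCategory.standard

namespace GrothLib.DerComplBij3

variable {A : Type u} [CommRing A] [IsNoetherianRing A] {ω : Dual.D A}

/-- Duality on morphisms: the vanishing of `Hom(C, P^∨)` gives that of `Hom(P, C^∨)`. -/
theorem hom_zero_of_dual (r : InjRep ω) (P C : DRing.Cx A) {b : ℤ} (hb : DRing.VanishesAbove P b)
    (hp : ∀ i, Module.Projective A (P.X i))
    (h : ∀ φ : DRing.toD C ⟶ DRing.toD (r.dual P), φ = 0) (ψ : DRing.toD P ⟶ DRing.toD (r.dual C)) : ψ = 0 := by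
  haveI := r.kInj
  haveI := GrothLib.DR.isKProjective P b hb hp
  haveI : (r.dual P).IsKInjective := GrothLib.RH.isKInjective_homCx P r.I
    (GrothLib.KF.isKFlat_of_vanishesAbove hb (GrothLib.DR.termwiseFlat_of_projective hp))
  obtain ⟨g, rfl⟩ := GrothLib.DR.exists_lift P ψ
  let k : C ⟶ r.dual P := evI r.I C ≫ GrothLib.RH.homCxPre g r.I
  have hg : g = evI r.I P ≫ GrothLib.RH.homCxPre k r.I := by
    have h1 : GrothLib.RH.homCxPre k r.I =
        GrothLib.RH.homCxPre (GrothLib.RH.homCxPre g r.I) r.I ≫ GrothLib.RH.homCxPre (evI r.I C) r.I :=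
      GrothLib.RH.homCxPreEquiv.homCxPre_comp _ _ _
    rw [h1, ← Category.assoc]
    refine Eq.trans ?_ (congrArg (· ≫ GrothLib.RH.homCxPre (evI r.I C) r.I) (evI_naturality r.I g))
    rw [Category.assoc, r.evI_comp_homCxPre C, Category.comp_id]
  have hk : (HomotopyCategory.quotient (ModuleCat.{u} A) (ComplexShape.up ℤ)).map k =
      (HomotopyCategory.quotient (ModuleCat.{u} A) (ComplexShape.up ℤ)).map 0 := by
    refine (Qmap_bijective_of_kInjective C (r.dual P)).1 ?_
    have hn : ∀ f : C ⟶ r.dual P, (DerivedCategory.quotientCompQhIso (ModuleCat.{u} A)).inv.app C ≫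
        DerivedCategory.Qh.map ((HomotopyCategory.quotient _ _).map f) ≫
          (DerivedCategory.quotientCompQhIso (ModuleCat.{u} A)).hom.app (r.dual P) = DerivedCategory.Q.map f := fun f =>
      (congrArg (_ ≫ ·) ((DerivedCategory.quotientCompQhIso (ModuleCat.{u} A)).hom.naturality f)).trans
        (Iso.inv_hom_id_app_assoc _ _ _)
    simp only [hn]
    rw [h (DerivedCategory.Q.map k), Functor.map_zero]
  let H : Homotopy k 0 := HomotopyCategory.homotopyOfEq _ _ hk
  have h0 : GrothLib.RH.homCxPre (0 : C ⟶ r.dual P) r.I = 0 :=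
    HomologicalComplex.hom_ext _ _ fun i => ModuleCat.hom_ext (LinearMap.ext fun z => by
      change (HomComplex.Cochain.ofHom (0 : C ⟶ r.dual P)).comp z (zero_add i) = 0
      rw [HomComplex.Cochain.ofHom_zero, HomComplex.Cochain.zero_comp])
  let H' : Homotopy (evI r.I P ≫ GrothLib.RH.homCxPre k r.I) (evI r.I P ≫ 0) :=
    ((GrothLib.RH.homCxPreHomotopy r.I H).trans (Homotopy.ofEq h0)).compLeft (evI r.I P)
  rw [hg, DerivedCategory.Q_map_eq_of_homotopy _ H', comp_zero, Functor.map_zero]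

variable (hω : Dual.IsDualizing A ω)

include hω in
/-- `Ext^i(A/r, ω)` vanishes below the degree of `r`. -/
theorem subsingleton_EH_lt_deg (r : PrimeSpectrum A) {i : ℤ} (hi : i < deg hω r.asIdeal) :
    Subsingleton (EH ω (Dual.inD A (A ⧸ r.asIdeal)) i) := by
  by_contra hns
  haveI : Nontrivial (EH ω (Dual.inD A (A ⧸ r.asIdeal)) i) := not_subsingleton_iff_nontrivial.1 hns
  obtain ⟨q, hq⟩ := (Module.nonempty_support_of_nontrivial (R := A) (M := EH ω (Dual.inD A (A ⧸ r.asIdeal)) i))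
  have hlen : len q.asIdeal (EH ω (Dual.inD A (A ⧸ r.asIdeal)) i) ≠ 0 :=
    (nontrivial_localized_iff q.asIdeal _).1 (Module.mem_support_iff.1 hq)
  have hrq : r.asIdeal ≤ q.asIdeal := fun a ha => by
    by_contra haq
    exact hlen (len_eq_zero_of_smul_eq_zero haq (smul_EH_quotient r.asIdeal i a ha))
  exact absurd (deg_bounds hω r.asIdeal q.asIdeal hrq i hlen).1 (not_le.2 hi)

include hω in
/-- The cohomology of the dual of a shifted cyclic module. -/
theorem nonempty_HD_dual_single (r : InjRep ω) (N : Type u) [AddCommGroup N] [Module A N] (C : DRing.Cx A) (e : ℤ)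
    (eC : DRing.toD C ≅ (Dual.inD A N)⟦-e⟧) (i : ℤ) :
    Nonempty (Dual.HD A (DRing.toD (r.dual C)) i ≃ₗ[A] EH ω (Dual.inD A N) (i + e)) := by
  obtain ⟨d⟩ := r.nonempty_HD_dual C i
  exact ⟨d.trans ((congrLeft eC _).trans (shiftLeft ω (Dual.inD A N) (-e) i (i + e) (by omega)))⟩

include hω in
/-- No maps from `A/q` into the dual of `A/r[-e]` in degrees below `deg q - e`. -/
theorem hom_quotient_dual_zero (r : InjRep ω) (q p : PrimeSpectrum A) (C : DRing.Cx A) (e : ℤ)
    (eC : DRing.toD C ≅ (Dual.inD A (A ⧸ p.asIdeal))⟦-e⟧) (j : ℤ) (hj : e + j < deg hω q.asIdeal) :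
    Subsingleton (Dual.inD A (A ⧸ q.asIdeal) ⟶ (DRing.toD (r.dual C))⟦j⟧) := by
  obtain ⟨P, hb, hp, ⟨eP⟩⟩ := GrothLib.DR.exists_projective_rep ((Dual.inD A (A ⧸ q.asIdeal))⟦-j⟧) j fun i hi => by
    obtain ⟨g⟩ := GrothLib.DualRing.nonempty_HD_shift (Dual.inD A (A ⧸ q.asIdeal)) (-j) i (i - j) (by omega)
    haveI := GrothLib.DR.subsingleton_HD_inD (A := A) (A ⧸ q.asIdeal) (i - j) (by omega)
    exact g.toEquiv.subsingleton
  have hzero : ∀ φ : DRing.toD C ⟶ DRing.toD (r.dual P), φ = 0 := by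
    haveI : (DRing.toD C).IsLE e := by
      rw [DerivedCategory.isLE_iff]
      intro i hi
      obtain ⟨g⟩ := GrothLib.DualRing.nonempty_HD_shift (Dual.inD A (A ⧸ p.asIdeal)) (-e) i (i - e) (by omega)
      haveI := GrothLib.DR.subsingleton_HD_inD (A := A) (A ⧸ p.asIdeal) (i - e) (by omega)
      haveI : Subsingleton (Dual.HD A (DRing.toD C) i) :=
        (((DerivedCategory.homologyFunctor (ModuleCat.{u} A) i).mapIso eC).toLinearEquiv.trans g).toEquiv.subsingleton
      exact ModuleCat.isZero_of_subsingleton _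
    haveI : (DRing.toD (r.dual P)).IsGE (deg hω q.asIdeal - j) := by
      rw [DerivedCategory.isGE_iff]
      intro i hi
      haveI := subsingleton_EH_lt_deg hω q (i := i + j) (by omega)
      obtain ⟨d⟩ := nonempty_HD_dual_single hω r _ P j eP i
      haveI : Subsingleton (Dual.HD A (DRing.toD (r.dual P)) i) := d.toEquiv.subsingleton
      exact ModuleCat.isZero_of_subsingleton _
    exact fun φ => DerivedCategory.TStructure.t.zero_of_isLE_of_isGE φ e (deg hω q.asIdeal - j) (by omega)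
      inferInstance inferInstance
  refine subsingleton_of_forall_eq 0 fun ξ => (CategoryTheory.shiftFunctor (Dual.D A) (-j)).map_injective ?_
  rw [Functor.map_zero]
  let u := (shiftEquiv' (Dual.D A) j (-j) (add_neg_cancel j)).unitIso.inv.app (DRing.toD (r.dual C))
  refine (cancel_mono u).1 ((cancel_epi eP.hom).1 ?_)
  exact (hom_zero_of_dual r P C hb hp hzero _).trans (comp_zero.symm.trans (congrArg (eP.hom ≫ ·) zero_comp.symm))

/-- The dual of a triangle. -/
theorem exists_dual_triangle (r : InjRep ω) (T : Triangle (Dual.D A)) (hT : T ∈ distTriang (Dual.D A)) :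
    ∃ (C₁ C₂ C₃ : DRing.Cx A) (S : Triangle (Dual.D A)), S ∈ distTriang (Dual.D A) ∧
      Nonempty (DRing.toD C₁ ≅ T.obj₁) ∧ Nonempty (DRing.toD C₂ ≅ T.obj₂) ∧ Nonempty (DRing.toD C₃ ≅ T.obj₃) ∧
      S.obj₁ = DRing.toD (r.dual C₃) ∧ S.obj₂ = DRing.toD (r.dual C₂) ∧ S.obj₃ = DRing.toD (r.dual C₁) := by
  obtain ⟨C₁, hC₁, ⟨e₁⟩⟩ := GrothLib.RH.exists_kInjective_rep T.obj₁
  haveI := hC₁
  obtain ⟨C₀, -, ⟨e₀⟩⟩ := GrothLib.RH.exists_kInjective_rep (T.obj₃⟦(-1 : ℤ)⟧)
  let R := T.invRotate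
  obtain ⟨f, hf⟩ := GrothLib.DR.exists_lift_inj (e₀.inv ≫ R.mor₁ ≫ e₁.hom : DRing.toD C₀ ⟶ DRing.toD C₁)
  let i₁ : DRing.toD C₀ ≅ R.obj₁ := e₀.symm
  let i₂ : DRing.toD C₁ ≅ R.obj₂ := e₁.symm
  let E := isoTriangleOfIso₁₂ _ R (DerivedCategory.mappingCone_triangle_distinguished f)
    (inv_rot_of_distTriang _ hT) i₁ i₂ (by
      change DerivedCategory.Q.map f ≫ e₁.inv = e₀.inv ≫ R.mor₁
      rw [hf]
      refine (Category.assoc _ _ _).trans (congrArg (e₀.inv ≫ ·) ?_)
      exact (Category.assoc _ _ _).trans ((congrArg (R.mor₁ ≫ ·) e₁.hom_inv_id).trans (Category.comp_id _)))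
  have hS : (mappingCone.triangleRotateShortComplex f).ShortExact :=
    HomologicalComplex.shortExact_of_degreewise_shortExact _ fun n =>
      (mappingCone.triangleRotateShortComplexSplitting f n).shortExact
  refine ⟨C₁, mappingCone f, C₀⟦(1 : ℤ)⟧, _,
    DerivedCategory.triangleOfSES_distinguished (dualSC_shortExact r.I r.inj hS), ⟨e₁.symm⟩,
    ⟨Triangle.π₃.mapIso E⟩, ⟨?_⟩, rfl, rfl, rfl⟩
  exact (DerivedCategory.Q.commShiftIso (1 : ℤ)).app C₀ ≪≫
    (CategoryTheory.shiftFunctor (Dual.D A) (1 : ℤ)).mapIso e₀.symm ≪≫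
      (shiftFunctorCompIsoId (Dual.D A) (-1 : ℤ) 1 (by norm_num)).app T.obj₃

end GrothLib.DerComplBij3
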