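import Groth.Agent.Lib.DerComplBij3.Bottom
import Groth.Agent.Lib.DerComplBij3.Dual
import Groth.Agent.Lib.DerComplBij3.Main
import Groth.Agent.Lib.FSecDual7.Model
import Groth.Agent.Lib.RGamma.HDI

/-!
# Bijectivity of the completion of `RΓ_J(M)` in low degrees, general ideals
-/

set_option autoImplicit false
set_option linter.style.haveILetI false
set_option linter.unusedSectionVars false
universe u

open CategoryTheory CategoryTheory.Limits Pretriangulated GrothLib.DualCx22 GrothLib.DualRing PrimeSpectrum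

attribute [local instance] HasDerivedCategory.standard

namespace GrothLib.DerComplBij3

variable {A : Type u} [CommRing A] [IsNoetherianRing A]

theorem smul_id_rgamma (K : Ideal A) [DRing.HasRgammaI K] (c : A) (W : Dual.D A) (h : c • 𝟙 W = 0) :
    c • 𝟙 ((DRing.RgammaI K).obj W) = 0 := by
  refine (GrothLib.RGamma.hom_bijective K _ W fun i => GrothLib.RGamma.isPowerTorsion_HD K W i).1 ?_
  change (c • 𝟙 _) ≫ (DRing.RgammaIε K).app W = 0 ≫ _
  rw [zero_comp, Linear.smul_comp, Category.id_comp]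
  refine Eq.trans ?_ (comp_zero (f := (DRing.RgammaIε K).app W) (Z := W))
  rw [← h, Linear.comp_smul]
  exact congrArg (c • ·) (Category.comp_id _).symm

theorem smul_HD_eq_zero (c : A) (X : Dual.D A) (h : c • 𝟙 X = 0) (i : ℤ) (x : Dual.HD A X i) : c • x = 0 := by
  haveI : Projective (ModuleCat.of A A) := (IsProjective.iff_projective (R := A) A).1 inferInstance
  obtain ⟨φ, hφ⟩ := (GrothLib.DCpl.homHn_bijective (ModuleCat.of A A) X i).2
    (ModuleCat.ofHom (LinearMap.toSpanSingleton A _ x))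
  have h0 : c • φ = 0 := by
    refine (congrArg (c • ·) (Category.comp_id φ)).symm.trans ((Linear.comp_smul _ _ _ _ _ _).symm.trans ?_)
    rw [← CategoryTheory.Functor.map_id, ← Functor.map_smul, h, Functor.map_zero, comp_zero]
  have h1 : GrothLib.DCpl.homHn (ModuleCat.of A A) X i (c • φ) = 0 := by rw [h0, homHn_zero]
  rw [homHn_smul, hφ] at h1
  have h2 := ConcreteCategory.congr_hom h1 1
  change c • ((1 : A) • x) = 0 at h2
  rwa [one_smul] at h2

/-- The support of the dual of a module lies in its support. -/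
theorem mem_support_of_EH {ω : Dual.D A} (M : Type u) [AddCommGroup M] [Module A M] [Module.Finite A M] (i : ℤ)
    (p : PrimeSpectrum A) (hp : p ∈ Module.support A (EH ω (Dual.inD A M) i)) : p ∈ Module.support A M := by
  rw [Module.mem_support_iff_of_finite]
  intro a ha
  by_contra hap
  rw [Module.mem_annihilator] at ha
  exact (nontrivial_localized_iff p.asIdeal _).1 (Module.mem_support_iff.1 hp)
    (len_eq_zero_of_smul_eq_zero hap (smul_eq_zero_of_killed (smul_id_inD ha)))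

variable {ω : Dual.D A} (r : InjRep ω) (I J : Ideal A) [DRing.HasRgammaI I] [DRing.HasRgammaI (J ⊔ I)]
  (s : ℕ) (P : PrimeSpectrum A)

/-- Some element outside `P` makes the low maps into `RΓ_(J+I)` of the dual torsion. -/
def Killable (L : Dual.D A) : Prop :=
  ∀ C : DRing.Cx A, Nonempty (DRing.toD C ≅ L) → ∃ a : A, a ∉ P.asIdeal ∧ ∀ i : ℤ, i ≤ s → ∀ f ∈ J, a ∣ f →
    TV f (gA I) ((DRing.RgammaI (J ⊔ I)).obj (DRing.toD (r.dual C))) i

variable {r I J s P}

theorem Killable.of_iso {L L' : Dual.D A} (e : L ≅ L') (h : Killable r I J s P L) : Killable r I J s P L' :=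
  fun C ⟨eC⟩ => h C ⟨eC ≪≫ e.symm⟩

theorem Killable.of_rep {L : Dual.D A} (C₀ : DRing.Cx A) (e : DRing.toD C₀ ≅ L) (a : A) (ha : a ∉ P.asIdeal)
    (h : ∀ i : ℤ, i ≤ s → ∀ f ∈ J, a ∣ f → TV f (gA I) ((DRing.RgammaI (J ⊔ I)).obj (DRing.toD (r.dual C₀))) i) :
    Killable r I J s P L := fun C ⟨eC⟩ => by
  obtain ⟨d⟩ := r.nonempty_dual_congr (eC ≪≫ e.symm)
  exact ⟨a, ha, fun i hi f hf haf => (h i hi f hf haf).of_iso ((DRing.RgammaI (J ⊔ I)).mapIso d)⟩

theorem Killable.of_isZero {L : Dual.D A} (hL : IsZero L) : Killable r I J s P L := fun C ⟨eC⟩ => by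
  refine ⟨1, (Ideal.ne_top_iff_one _).1 P.2.ne_top, fun i _ f _ _ => tv_of_zero fun ξ => ?_⟩
  have hW : IsZero (DRing.toD (r.dual C)) := GrothLib.RGamma.isZero_of_subsingleton_HD fun j => by
    obtain ⟨d⟩ := r.nonempty_HD_dual C j
    haveI : Subsingleton (DRing.toD C ⟶ ω⟦j⟧) := ⟨fun x y => (hL.of_iso eC).eq_of_src x y⟩
    exact d.toEquiv.subsingleton
  have h1 : IsZero ((DRing.RgammaI (J ⊔ I)).obj (DRing.toD (r.dual C))) := (IsZero.iff_id_eq_zero _).2
    ((GrothLib.RGamma.hom_bijective (J ⊔ I) _ _ fun j => GrothLib.RGamma.isPowerTorsion_HD (J ⊔ I) _ j).1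
      (hW.eq_of_tgt _ _))
  exact ((CategoryTheory.shiftFunctor (Dual.D A) i).map_isZero h1).eq_of_tgt _ _

theorem Killable.of_triangle {T : Triangle (Dual.D A)} (hT : T ∈ distTriang (Dual.D A))
    (h₁ : Killable r I J s P T.obj₁) (h₃ : Killable r I J s P T.obj₃) : Killable r I J s P T.obj₂ := by
  obtain ⟨C₁, C₂, C₃, S, hS, ⟨e₁⟩, ⟨e₂⟩, ⟨e₃⟩, o₁, o₂, o₃⟩ := exists_dual_triangle r T hT
  obtain ⟨a₁, ha₁, h₁⟩ := h₁ C₁ ⟨e₁⟩
  obtain ⟨a₃, ha₃, h₃⟩ := h₃ C₃ ⟨e₃⟩
  refine Killable.of_rep C₂ e₂ (a₁ * a₃) (fun h => (P.2.mem_or_mem h).elim ha₁ ha₃) fun i hi f hf haf => ?_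
  have k₁ := h₁ i hi f hf ((dvd_mul_right _ _).trans haf)
  have k₃ := h₃ i hi f hf ((dvd_mul_left _ _).trans haf)
  rw [← o₃] at k₁
  rw [← o₁] at k₃
  rw [← o₂]
  intro ξ
  obtain ⟨n, hn⟩ := k₁ (ξ ≫ ((DRing.RgammaI (J ⊔ I)).map S.mor₂)⟦i⟧')
  obtain ⟨η, hη⟩ := exists_lift_of_triangle (J ⊔ I) S hS _ i (f ^ n • ξ) (by rw [Linear.smul_comp]; exact hn)
  obtain ⟨m, hm⟩ := k₃ η
  exact ⟨m + n, by rw [pow_add, mul_smul, ← hη, ← Linear.smul_comp, hm, zero_comp]⟩

/-- Dévissage along cohomology. -/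
theorem Killable.of_pieces : ∀ (k : ℕ) (L : Dual.D A) (b : ℤ),
    (∀ i, b < i → Subsingleton (Dual.HD A L i)) → (∀ i, i ≤ b - (k : ℤ) → Subsingleton (Dual.HD A L i)) →
    (∀ j, Killable r I J s P ((Dual.inD A (Dual.HD A L j))⟦-j⟧)) → Killable r I J s P L := by
  intro k
  induction k with
  | zero =>
    intro L b hb ha _
    exact Killable.of_isZero (GrothLib.RGamma.isZero_of_subsingleton_HD fun i => by
      by_cases hi : b < i
      · exact hb i hi
      · exact ha i (by push_cast; omega))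
  | succ k ih =>
    intro L b hb ha hL
    obtain ⟨T, hT, rfl, ⟨e⟩, hlt, hge⟩ := GrothLib.DualRing.exists_top_triangle L b hb
    refine Killable.of_triangle hT (ih T.obj₁ (b - 1) (fun i hi => hge i (by omega)) (fun i hi => ?_) fun j => ?_)
      ((hL b).of_iso e.symm)
    · obtain ⟨g⟩ := hlt i (by omega)
      haveI := ha i (by push_cast at hi ⊢; omega)
      exact g.toEquiv.subsingleton
    · by_cases hj : j < b
      · obtain ⟨g⟩ := hlt j hj
        exact (hL j).of_iso ((CategoryTheory.shiftFunctor (Dual.D A) (-j)).mapIso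
          ((DerivedCategory.singleFunctor (ModuleCat.{u} A) 0).mapIso g.symm.toModuleIso))
      · haveI := hge j (by omega)
        exact Killable.of_isZero ((CategoryTheory.shiftFunctor (Dual.D A) (-j)).map_isZero
          ((DerivedCategory.singleFunctor (ModuleCat.{u} A) 0).map_isZero
            (ModuleCat.isZero_of_subsingleton (ModuleCat.of A (Dual.HD A T.obj₁ j)))))

/-- Dévissage of a module along a prime filtration. -/
theorem Killable.of_primes (e : ℤ) (N : Type u) [AddCommGroup N] [Module A N] [Module.Finite A N]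
    (h : ∀ p ∈ Module.support A N, Killable r I J s P ((Dual.inD A (A ⧸ p.asIdeal))⟦-e⟧)) :
    Killable r I J s P ((Dual.inD A N)⟦-e⟧) := by
  revert h
  refine IsNoetherianRing.induction_on_isQuotientEquivQuotientPrime A (M := N) inferInstance
    (motive := fun N _ _ _ => (∀ p ∈ Module.support A N, Killable r I J s P ((Dual.inD A (A ⧸ p.asIdeal))⟦-e⟧)) →
      Killable r I J s P ((Dual.inD A N)⟦-e⟧)) ?_ ?_ ?_
  · intro N _ _ _ _ _
    exact Killable.of_isZero ((CategoryTheory.shiftFunctor (Dual.D A) (-e)).map_isZero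
      ((DerivedCategory.singleFunctor (ModuleCat.{u} A) 0).map_isZero (ModuleCat.isZero_of_subsingleton _)))
  · intro N _ _ _ p g h
    refine (h p (Module.support_subset_of_injective g.symm.toLinearMap g.symm.injective ?_)).of_iso
      ((CategoryTheory.shiftFunctor (Dual.D A) (-e)).mapIso
        ((DerivedCategory.singleFunctor (ModuleCat.{u} A) 0).mapIso g.symm.toModuleIso))
    rw [Module.support_eq_zeroLocus, Ideal.annihilator_quotient]
    exact le_refl p.asIdeal
  · intro N₁ _ _ _ N₂ _ _ _ N₃ _ _ _ u v hu hv he h₁ h₃ h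
    let S : ShortComplex (ModuleCat.{u} A) := ShortComplex.mk (ModuleCat.ofHom u) (ModuleCat.ofHom v)
      (ModuleCat.hom_ext (LinearMap.ext fun x => he.apply_apply_eq_zero x))
    have hS : S.ShortExact :=
      { exact := (ShortComplex.moduleCat_exact_iff _).2 fun x hx => (he x).1 hx
        mono_f := (ModuleCat.mono_iff_injective _).2 hu
        epi_g := (ModuleCat.epi_iff_surjective _).2 hv }
    exact Killable.of_triangle (Triangle.shift_distinguished _ hS.singleTriangle_distinguished (-e))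
      (h₁ fun p hp => h p (Module.support_subset_of_injective u hu hp))
      (h₃ fun p hp => h p (Module.support_subset_of_surjective v hv hp))

variable [IsAdicComplete I A] [DRing.HasDerivedCompletion I] (hω : Dual.IsDualizing A ω) {d : ℕ}

include hω in
/-- The leaves. -/
theorem killable_leaf (hcd : LocCoh.CdLE A I d) (hIP : I ≤ P.asIdeal) {g : A} (hgJ : g ∈ J) (hgP : g ∉ P.asIdeal)
    (p : PrimeSpectrum A) (e : ℤ) (k : ℕ) (he : e ≤ deg hω p.asIdeal - k)
    (h4 : ¬ I ≤ p.asIdeal → p.asIdeal ≤ P.asIdeal → s ≤ k ∨ ∀ q : PrimeSpectrum A, p ≤ q → J ≤ q.asIdeal →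
      I ≤ q.asIdeal → (d : ℤ) + s + deg hω p.asIdeal < k + deg hω q.asIdeal) :
    Killable r I J s P ((Dual.inD A (A ⧸ p.asIdeal))⟦-e⟧) := by
  intro C hC
  obtain ⟨eC⟩ := hC
  let W := DRing.toD (r.dual C)
  have hW : ∀ l, Nonempty (Dual.HD A W l ≃ₗ[A] EH ω (Dual.inD A (A ⧸ p.asIdeal)) (l + e)) := fun l =>
    nonempty_HD_dual_single hω r _ C e eC l
  have hkill : ∀ a ∈ p.asIdeal, ∀ l, ∀ x : Dual.HD A W l, a • x = 0 := fun a ha l x => by
    obtain ⟨d⟩ := hW l
    exact d.injective ((map_smul d a x).trans ((smul_EH_quotient p.asIdeal _ a ha _).trans (map_zero d).symm))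
  obtain ⟨lo, hi, hb⟩ : ∃ lo hi : ℤ, ∀ i : ℤ, (i < lo ∨ hi < i) → Subsingleton (Dual.HD A W i) := by
    refine r.exists_bound_dual C ⟨e, e, fun i hi => ?_⟩
    obtain ⟨g'⟩ := GrothLib.DualRing.nonempty_HD_shift (Dual.inD A (A ⧸ p.asIdeal)) (-e) i (i - e) (by omega)
    haveI := GrothLib.DR.subsingleton_HD_inD (A := A) (A ⧸ p.asIdeal) (i - e) (by omega)
    exact (((DerivedCategory.homologyFunctor (ModuleCat.{u} A) i).mapIso eC).toLinearEquiv.trans g').toEquiv.subsingleton
  haveI : W.IsGE lo := by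
    rw [DerivedCategory.isGE_iff]
    exact fun i hi => (GrothLib.DR.subsingleton_iff_isZero _).1 (hb i (Or.inl hi))
  have hpow : ∀ a ∈ p.asIdeal, ∃ N : ℕ, a ^ N • 𝟙 ((DRing.RgammaI (J ⊔ I)).obj W) = 0 := fun a ha => by
    have hle : W.IsLE (lo + (hi - lo).toNat) := by
      rw [DerivedCategory.isLE_iff]
      exact fun i hi => (GrothLib.DR.subsingleton_iff_isZero _).1 (hb i (Or.inr (by omega)))
    obtain ⟨N, hN⟩ := GrothLib.KillCompl3.exists_pow_smul_id a _ W lo inferInstance hle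
      fun j => ⟨1, fun x => by rw [pow_one]; exact hkill a ha j x⟩
    exact ⟨N, smul_id_rgamma (J ⊔ I) _ W hN⟩
  by_cases hpP : p.asIdeal ≤ P.asIdeal
  rotate_left
  · obtain ⟨a, hap, haP⟩ := SetLike.not_le_iff_exists.1 hpP
    refine ⟨a, haP, fun i _ f _ haf ξ => ?_⟩
    obtain ⟨N, hN⟩ := hpow f (Ideal.mem_of_dvd _ haf hap)
    refine ⟨N, ?_⟩
    refine (congrArg (f ^ N • ·) (Category.comp_id ξ)).symm.trans ((Linear.comp_smul _ _ _ _ _ _).symm.trans ?_)
    rw [← CategoryTheory.Functor.map_id, ← Functor.map_smul, hN, Functor.map_zero, comp_zero]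
  by_cases hIp : I ≤ p.asIdeal
  · refine ⟨1, (Ideal.ne_top_iff_one _).1 P.2.ne_top, fun i _ f hf _ => tv_of_complete I ?_ i fun x => ?_⟩
    · rw [GrothLib.DCpl.isDerivedComplete_iff]
      intro a ha j
      obtain ⟨N, hN⟩ := hpow a (hIp ha)
      exact GrothLib.DCpl.DCMod.of_pow N
        (GrothLib.FSecDual7.dcMod_of_smul_eq_zero (smul_HD_eq_zero _ _ hN j))
    · obtain ⟨n, hn⟩ := GrothLib.RGamma.isPowerTorsion_HD (J ⊔ I) W i x
      exact ⟨n, hn _ (Ideal.pow_mem_pow (le_sup_left (a := J) (b := I) hf) n)⟩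
  rcases h4 hIp hpP with hsk | hstrict
  · obtain ⟨a, ha, hkilled⟩ := exists_killed_bottom (K := J ⊔ I) (I := I) P hIP (Ideal.mem_sup_left hgJ) hgP
      (deg hω p.asIdeal - e) (hi - (deg hω p.asIdeal - e) + 1).toNat W hi (fun i h => hb i (Or.inr h))
      (fun i h => by
        obtain ⟨d⟩ := hW i
        haveI := subsingleton_EH_lt_deg hω p (i := i + e) (by omega)
        exact d.toEquiv.subsingleton)
      (fun i h => by
        obtain ⟨d⟩ := hW i
        haveI := subsingleton_EH_lt_deg hω p (i := i + e) (by omega)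
        exact d.toEquiv.subsingleton)
      (fun i => by
        obtain ⟨d⟩ := hW i
        obtain ⟨N, hN, ⟨g'⟩⟩ := exists_finite_hom_equiv hω (Dual.inD A (A ⧸ p.asIdeal))
          (finite_HD_inD (A ⧸ p.asIdeal)) (i + e)
        haveI := hN
        exact Module.Finite.equiv (g'.trans d.symm))
    refine ⟨a, ha, fun i hi f _ haf ξ => ?_⟩
    obtain ⟨c, rfl⟩ := haf
    exact ⟨1, by rw [pow_one, mul_comm, mul_smul, hkilled i (by omega) ξ, smul_zero]⟩
  -- the strict case
  haveI := hasRgammaI p.asIdeal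
  haveI := hasRgammaI (p.asIdeal ⊔ (J ⊔ I))
  haveI := GrothLib.RGamma.isIso_ε p.asIdeal W fun l x => ⟨1, fun a ha => hkill a (by rwa [pow_one] at ha) l x⟩
  obtain ⟨eK⟩ := GrothLib.RGamma.comp_iso_sup p.asIdeal (J ⊔ I) W
  let eZ : (DRing.RgammaI (J ⊔ I)).obj W ≅ (DRing.RgammaI (p.asIdeal ⊔ (J ⊔ I))).obj W :=
    ((DRing.RgammaI (J ⊔ I)).mapIso (asIso ((DRing.RgammaIε p.asIdeal).app W))).symm ≪≫ eK
  have hZ : ∀ j : ℤ, j ≤ (s : ℤ) + d → Subsingleton (Dual.HD A ((DRing.RgammaI (J ⊔ I)).obj W) j) := fun j hj => by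
    have hN : ∀ (N : Type u) [AddCommGroup N] [Module A N] [Module.Finite A N],
        (∀ q ∈ Module.support A N, p.asIdeal ⊔ (J ⊔ I) ≤ q.asIdeal) → Subsingleton (Dual.inD A N ⟶ W⟦j⟧) := by
      intro N _ _ _
      refine IsNoetherianRing.induction_on_isQuotientEquivQuotientPrime A (M := N) inferInstance
        (motive := fun N _ _ _ => (∀ q ∈ Module.support A N, p.asIdeal ⊔ (J ⊔ I) ≤ q.asIdeal) →
          Subsingleton (Dual.inD A N ⟶ W⟦j⟧)) ?_ ?_ ?_
      · intro N _ _ _ _ _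
        exact ⟨fun x y => ((DerivedCategory.singleFunctor (ModuleCat.{u} A) 0).map_isZero
          (ModuleCat.isZero_of_subsingleton (ModuleCat.of A N))).eq_of_src x y⟩
      · intro N _ _ _ q g h
        have hq : p.asIdeal ⊔ (J ⊔ I) ≤ q.asIdeal :=
          h q (Module.support_subset_of_injective g.symm.toLinearMap g.symm.injective (by
            rw [Module.support_eq_zeroLocus, Ideal.annihilator_quotient]; exact le_refl q.asIdeal))
        haveI := hom_quotient_dual_zero hω r q p C e eC j (by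
          have := hstrict q (le_sup_left.trans hq) ((le_sup_left.trans le_sup_right).trans hq)
            ((le_sup_right.trans le_sup_right).trans hq)
          omega)
        exact (congrLeft ((DerivedCategory.singleFunctor (ModuleCat.{u} A) 0).mapIso g.toModuleIso)
          (W⟦j⟧)).toEquiv.subsingleton
      · intro N₁ _ _ _ N₂ _ _ _ N₃ _ _ _ u v hu hv he' h₁ h₃ h
        let S : ShortComplex (ModuleCat.{u} A) := ShortComplex.mk (ModuleCat.ofHom u) (ModuleCat.ofHom v)
          (ModuleCat.hom_ext (LinearMap.ext fun x => he'.apply_apply_eq_zero x))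
        have hS : S.ShortExact :=
          { exact := (ShortComplex.moduleCat_exact_iff _).2 fun x hx => (he' x).1 hx
            mono_f := (ModuleCat.mono_iff_injective _).2 hu
            epi_g := (ModuleCat.epi_iff_surjective _).2 hv }
        haveI := h₁ fun q hq => h q (Module.support_subset_of_injective u hu hq)
        haveI := h₃ fun q hq => h q (Module.support_subset_of_surjective v hv hq)
        refine subsingleton_of_forall_eq 0 fun φ => ?_
        obtain ⟨ψ, hψ⟩ := Triangle.yoneda_exact₂ _ hS.singleTriangle_distinguished φ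
          (Subsingleton.elim (α := Dual.inD A N₁ ⟶ W⟦j⟧) _ _)
        rw [hψ, Subsingleton.elim (α := Dual.inD A N₃ ⟶ W⟦j⟧) ψ 0]
        exact comp_zero
    obtain ⟨g'⟩ := GrothLib.RGamma.nonempty_HD_equiv_HDI (p.asIdeal ⊔ (J ⊔ I)) W j
    haveI : Subsingleton (Dual2.HDI A (p.asIdeal ⊔ (J ⊔ I)) W j) := subsingleton_of_forall_eq 0 fun z => by
      obtain ⟨n, φ, rfl⟩ := Concrete.colimit_exists_rep _ z
      haveI := hN (A ⧸ (p.asIdeal ⊔ (J ⊔ I)) ^ n.unop.unop) fun q hq => by
        rw [Module.support_eq_zeroLocus, Ideal.annihilator_quotient] at hq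
        exact q.2.le_of_pow_le hq
      have hφ : φ = 0 := Subsingleton.elim
        (α := Dual.inD A (A ⧸ (p.asIdeal ⊔ (J ⊔ I)) ^ n.unop.unop) ⟶ W⟦j⟧) _ _
      rw [hφ, map_zero]
    exact ((GrothLib.RGamma.hdIso eZ j).trans g').toEquiv.subsingleton
  refine ⟨1, (Ideal.ne_top_iff_one _).1 P.2.ne_top, fun i hi f _ _ => tv_of_zero fun ξ => ?_⟩
  haveI := isLE_gA I hcd
  haveI : ((DRing.RgammaI (J ⊔ I)).obj W).IsGE ((s : ℤ) + d + 1) := by
    rw [DerivedCategory.isGE_iff]
    exact fun j hj => (GrothLib.DR.subsingleton_iff_isZero _).1 (hZ j (by omega))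
  exact DerivedCategory.TStructure.t.zero_of_isLE_of_isGE ξ d ((s : ℤ) + d + 1 - i) (by omega) inferInstance
    (DerivedCategory.TStructure.t.isGE_shift _ ((s : ℤ) + d + 1) i ((s : ℤ) + d + 1 - i) (by omega))

include hω in
theorem exists_notMem_nilpotent_general (hcd : LocCoh.CdLE A I d) (M : Type u) [AddCommGroup M] [Module A M]
    [Module.Finite A M] (hIP : I ≤ P.asIdeal) (hJP : ¬ J ≤ P.asIdeal)
    (h4 : ∀ p : PrimeSpectrum A, ¬ I ≤ p.asIdeal → p.asIdeal ≤ P.asIdeal → ∀ q : PrimeSpectrum A, p ≤ q →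
      J ≤ q.asIdeal → I ≤ q.asIdeal →
      (s : ℕ∞) ≤ LocCoh.depth (Localization.AtPrime p.asIdeal) (LocalizedModule p.asIdeal.primeCompl M) ∨
        (((d + s : ℕ) : ℕ∞) : WithBot ℕ∞) < ((LocCoh.depth (Localization.AtPrime p.asIdeal)
          (LocalizedModule p.asIdeal.primeCompl M) : ℕ∞) : WithBot ℕ∞) +
            Formal2.dimBetween A p.asIdeal q.asIdeal) :
    ∃ f ∈ J, f ∉ P.asIdeal ∧ ∀ i : ℤ, i ≤ s → ∀ x : Dual.HD A
      ((DRing.derivedCompletion I).obj ((DRing.RgammaI (J ⊔ I)).obj (Dual.inD A M))).obj i,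
        ∃ n : ℕ, f ^ n • x = 0 := by
  obtain ⟨g, hgJ, hgP⟩ := SetLike.not_le_iff_exists.1 hJP
  obtain ⟨r⟩ := nonempty_injRep hω
  obtain ⟨C₀, -, ⟨e₀⟩⟩ := GrothLib.RH.exists_kInjective_rep (Dual.inD A M)
  let L := DRing.toD (r.dual C₀)
  have hL : ∀ j, Nonempty (Dual.HD A L j ≃ₗ[A] EH ω (Dual.inD A M) j) := fun j => by
    obtain ⟨d⟩ := r.nonempty_HD_dual C₀ j
    exact ⟨d.trans (congrLeft e₀.symm _)⟩
  have hfin : ∀ j, Module.Finite A (Dual.HD A L j) := fun j => by
    obtain ⟨d⟩ := hL j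
    obtain ⟨N, hN, ⟨g'⟩⟩ := exists_finite_hom_equiv hω (Dual.inD A M) (finite_HD_inD M) j
    haveI := hN
    exact Module.Finite.equiv (g'.trans d.symm)
  obtain ⟨lo, hi, hb⟩ : ∃ lo hi : ℤ, ∀ i : ℤ, (i < lo ∨ hi < i) → Subsingleton (Dual.HD A L i) := by
    refine r.exists_bound_dual C₀ ⟨0, 0, fun i hi => ?_⟩
    haveI := GrothLib.DR.subsingleton_HD_inD (A := A) M i (by omega)
    exact (((DerivedCategory.homologyFunctor (ModuleCat.{u} A) i).mapIso e₀.symm).toLinearEquiv).toEquiv.subsingleton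
  have hK : Killable r I J s P L := by
    refine Killable.of_pieces (hi - lo + 1).toNat L hi (fun i h => hb i (Or.inr h))
      (fun i h => hb i (Or.inl (by omega))) fun j => ?_
    haveI := hfin j
    refine Killable.of_primes j _ fun p hp => ?_
    obtain ⟨d'⟩ := hL j
    have hp' : p ∈ Module.support A (EH ω (Dual.inD A M) j) :=
      Module.support_subset_of_injective d'.toLinearMap d'.injective hp
    obtain ⟨k, hk, -, hle, -⟩ := exists_degrees hω p M (mem_support_of_EH M j p hp')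
    refine killable_leaf hω hcd hIP hgJ hgP p j k (hle j hp') fun hIp hpP => ?_
    by_cases hsk : s ≤ k
    · exact Or.inl hsk
    refine Or.inr fun q hpq hJq hIq => ?_
    have h := h4 p hIp hpP q hpq hJq hIq
    rw [hk, GrothLib.FSecDual7.dimBetween_eq_deg hω hpq] at h
    have hmono : deg hω p.asIdeal ≤ deg hω q.asIdeal := (degS_strictMono hω).monotone hpq
    rcases h with h | h
    · exact absurd (by exact_mod_cast h) hsk
    · have h2 : d + s < k + (deg hω q.asIdeal - deg hω p.asIdeal).toNat := by exact_mod_cast h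
      omega
  obtain ⟨eb⟩ := r.nonempty_bidual C₀ fun i => by
    haveI := finite_HD_inD (A := A) M i
    exact Module.Finite.equiv ((DerivedCategory.homologyFunctor (ModuleCat.{u} A) i).mapIso e₀).toLinearEquiv
  obtain ⟨a, haP, ha⟩ := hK (r.dual C₀) ⟨Iso.refl _⟩
  refine ⟨a * g, Ideal.mul_mem_left _ _ hgJ, fun h => (P.2.mem_or_mem h).elim haP hgP, fun i hi x => ?_⟩
  exact exists_pow_smul_completion I (a * g) _ i ((ha i hi _ (Ideal.mul_mem_left _ _ hgJ) (dvd_mul_right a g)).of_iso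
    ((DRing.RgammaI (J ⊔ I)).mapIso (eb.symm ≪≫ e₀.symm))) x

/-- **Bijectivity of the completion of `RΓ_J(M)` in low degrees.** -/
theorem exists_ideal_bijective_general {A : Type u} [CommRing A] [IsNoetherianRing A] (I : Ideal A)
    [IsAdicComplete I A] [DRing.HasDerivedCompletion I] (hdc : ∃ ω : Dual.D A, Dual.IsDualizing A ω) (J : Ideal A)
    (M : Type u) [AddCommGroup M] [Module A M] [Module.Finite A M] (s d : ℕ) (hcd : LocCoh.CdLE A I d)
    (h4 : ∀ p : PrimeSpectrum A, ¬ I ≤ p.asIdeal →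
      (∃ P : PrimeSpectrum A, p ≤ P ∧ I ≤ P.asIdeal ∧ ¬ J ≤ P.asIdeal) →
      ∀ q : PrimeSpectrum A, p ≤ q → J ≤ q.asIdeal → I ≤ q.asIdeal →
      (s : ℕ∞) ≤ LocCoh.depth (Localization.AtPrime p.asIdeal) (LocalizedModule p.asIdeal.primeCompl M) ∨
        (((d + s : ℕ) : ℕ∞) : WithBot ℕ∞) < ((LocCoh.depth (Localization.AtPrime p.asIdeal)
          (LocalizedModule p.asIdeal.primeCompl M) : ℕ∞) : WithBot ℕ∞) +
            Formal2.dimBetween A p.asIdeal q.asIdeal) :
    ∃ J₀ : Ideal A, J₀ ≤ J ∧ zeroLocus (J₀ : Set A) ∩ zeroLocus (I : Set A) =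
        zeroLocus (J : Set A) ∩ zeroLocus (I : Set A) ∧
      ∀ (J' : Ideal A) [DRing.HasRgammaI J'], J' ≤ J₀ → zeroLocus (J' : Set A) ∩ zeroLocus (I : Set A) =
          zeroLocus (J : Set A) ∩ zeroLocus (I : Set A) →
        ∀ i : ℤ, i ≤ s → Function.Bijective ((DerivedCategory.homologyFunctor (ModuleCat.{u} A) i).map
          (DRing.toDerivedCompletion I ((DRing.RgammaI J').obj (Dual.inD A M)))).hom := by
  obtain ⟨ω, hω⟩ := hdc
  haveI := hasRgammaI I
  haveI := hasRgammaI (J ⊔ I)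
  let D := ((DRing.derivedCompletion I).obj ((DRing.RgammaI (J ⊔ I)).obj (Dual.inD A M))).obj
  let J₀ : Ideal A := J ⊓ ⨅ i : {i : ℤ // i ≤ s}, ⨅ x : Dual.HD A D i.1, (Ideal.torsionOf A _ x).radical
  refine ⟨J₀, inf_le_left, ?_, fun J' _ hJ' hV i hi => ?_⟩
  · refine Set.Subset.antisymm (fun P ⟨hP, hIP⟩ => ⟨?_, hIP⟩) fun P ⟨hP, hIP⟩ =>
      ⟨fun a ha => hP (Submodule.mem_inf.1 ha).1, hIP⟩
    by_contra hJP
    obtain ⟨f, hfJ, hfP, hf⟩ := exists_notMem_nilpotent_general (J := J) (s := s) (P := P) hω hcd M hIP hJP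
      fun p hIp hpP => h4 p hIp ⟨P, hpP, hIP, hJP⟩
    refine hfP (hP (Submodule.mem_inf.2 ⟨hfJ, ?_⟩))
    simp only [Submodule.mem_iInf]
    rintro ⟨i, hi⟩ x
    obtain ⟨n, hn⟩ := hf i hi x
    exact ⟨n, hn⟩
  · have hK : DRing.IsDerivedComplete I (Dual.inD A M) :=
      isDerivedComplete_of_finite I _ (finite_HD_inD M)
    have hrad : (J' ⊔ I).radical = (J ⊔ I).radical := by
      rw [← vanishingIdeal_zeroLocus_eq_radical, zeroLocus_sup, hV, ← zeroLocus_sup,
        vanishingIdeal_zeroLocus_eq_radical]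
    obtain ⟨e⟩ := nonempty_completion_iso_sup I J' (J ⊔ I) (Ideal.le_radical.trans hrad.le)
      (Ideal.le_radical.trans hrad.ge) (Dual.inD A M)
    refine homology_bijective I J' _ hK s (fun j hj => ?_) i hi
    refine GrothLib.RGamma.isPowerTorsion_of_linearEquiv J' (GrothLib.RGamma.hdIso e j)
      (isPowerTorsion_of_le_radical J' fun x => hJ'.trans (inf_le_right.trans ?_))
    exact (iInf_le _ (⟨j, hj⟩ : {i : ℤ // i ≤ s})).trans (iInf_le _ x)

end GrothLib.DerComplBij3
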