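import Groth.Agent.Lib.DualCx22.DualityCompletion
import Groth.Agent.Lib.DualCx22.TorsionDual
import Groth.Agent.Lib.RGamma.Sup
import Groth.Agent.Lib.DCxRing.DComplete.HomProj

/-!
# The derived completion of `RΓ_J` of a complete object, seen from torsion objects
-/

set_option autoImplicit false
set_option linter.style.haveILetI false
universe u

open CategoryTheory CategoryTheory.Limits Pretriangulated GrothLib.DualCx22

attribute [local instance] HasDerivedCategory.standard

namespace GrothLib.DerComplBij3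

variable {A : Type u} [CommRing A] [IsNoetherianRing A]

theorem isPowerTorsion_mono {J J' : Ideal A} (h : J' ≤ J.radical) {M : Type u} [AddCommGroup M] [Module A M]
    (hM : LocCoh.IsPowerTorsion J M) : LocCoh.IsPowerTorsion J' M := fun x => by
  obtain ⟨n, hn⟩ := hM x
  obtain ⟨k, hk⟩ := Ideal.exists_pow_le_of_le_radical_of_fg h (IsNoetherian.noetherian J')
  refine ⟨k * n, fun a ha => hn a ?_⟩
  rw [pow_mul] at ha
  exact Ideal.pow_right_mono hk n ha

/-- `RΓ` depends on the ideal up to radical. -/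
theorem nonempty_rgamma_iso (J J' : Ideal A) [DRing.HasRgammaI J] [DRing.HasRgammaI J'] (h : J ≤ J'.radical)
    (h' : J' ≤ J.radical) (K : Dual.D A) :
    ∃ e : (DRing.RgammaI J).obj K ≅ (DRing.RgammaI J').obj K,
      e.hom ≫ (DRing.RgammaIε J').app K = (DRing.RgammaIε J).app K := by
  have h1 := fun i => isPowerTorsion_mono h' (GrothLib.RGamma.isPowerTorsion_HD J K i)
  have h2 := fun i => isPowerTorsion_mono h (GrothLib.RGamma.isPowerTorsion_HD J' K i)
  obtain ⟨a, ha⟩ := (GrothLib.RGamma.hom_bijective J' _ K h1).2 ((DRing.RgammaIε J).app K)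
  obtain ⟨b, hb⟩ := (GrothLib.RGamma.hom_bijective J _ K h2).2 ((DRing.RgammaIε J').app K)
  refine ⟨⟨a, b, (GrothLib.RGamma.hom_bijective J _ K fun i => GrothLib.RGamma.isPowerTorsion_HD J K i).1 ?_,
    (GrothLib.RGamma.hom_bijective J' _ K fun i => GrothLib.RGamma.isPowerTorsion_HD J' K i).1 ?_⟩, ha⟩
  · change (a ≫ b) ≫ _ = 𝟙 _ ≫ _
    rw [Category.assoc, Category.id_comp]
    exact (congrArg (a ≫ ·) hb).trans ha
  · change (b ≫ a) ≫ _ = 𝟙 _ ≫ _
    rw [Category.assoc, Category.id_comp]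
    exact (congrArg (b ≫ ·) ha).trans hb

variable (I J : Ideal A) [DRing.HasRgammaI J]

/-- `RΓ_I` of a `J`-torsion object is `J`-torsion. -/
theorem isPowerTorsion_rgamma [DRing.HasRgammaI I] (T : Dual.D A)
    (hT : ∀ i, LocCoh.IsPowerTorsion J (Dual.HD A T i)) (i : ℤ) :
    LocCoh.IsPowerTorsion J (Dual.HD A ((DRing.RgammaI I).obj T) i) := by
  haveI := hasRgammaI (J ⊔ I)
  haveI := GrothLib.RGamma.isIso_ε J T hT
  obtain ⟨e⟩ := GrothLib.RGamma.comp_iso_sup J I T
  let e' : (DRing.RgammaI (J ⊔ I)).obj T ≅ (DRing.RgammaI I).obj T :=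
    e.symm ≪≫ (DRing.RgammaI I).mapIso (asIso ((DRing.RgammaIε J).app T))
  exact GrothLib.RGamma.isPowerTorsion_of_linearEquiv J (GrothLib.RGamma.hdIso e' i)
    (isPowerTorsion_mono (le_sup_left.trans Ideal.le_radical) (GrothLib.RGamma.isPowerTorsion_HD (J ⊔ I) T i))

variable [DRing.HasDerivedCompletion I]

/-- Torsion objects do not see the completion of `RΓ_J` of a complete object. -/
theorem hom_completion_bijective (K : Dual.D A) (hK : DRing.IsDerivedComplete I K) (T : Dual.D A)
    (hT : ∀ i, LocCoh.IsPowerTorsion J (Dual.HD A T i)) :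
    Function.Bijective fun g : T ⟶ (DRing.RgammaI J).obj K =>
      g ≫ DRing.toDerivedCompletion I ((DRing.RgammaI J).obj K) := by
  haveI := hasRgammaI I
  let X := (DRing.RgammaI J).obj K
  let c := DRing.toDerivedCompletion I X
  let P := (DRing.RgammaI I).obj T
  let ε : P ⟶ T := (DRing.RgammaIε I).app T
  have hP := isPowerTorsion_rgamma I J T hT
  have h1 : Function.Bijective fun φ : T ⟶ ((DRing.derivedCompletion I).obj X).obj => ε ≫ φ :=
    GrothLib.RGamma.isCEquiv_ε I T _ ((DRing.derivedCompletion I).obj X).property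
  have h2 : Function.Bijective fun g : P ⟶ X => g ≫ c :=
    isTorsEquiv_toDerivedCompletion I X P fun i => GrothLib.RGamma.isPowerTorsion_HD I T i
  have h3 : Function.Bijective fun g : T ⟶ X => ε ≫ g := by
    refine (Function.Bijective.of_comp_iff' (GrothLib.RGamma.hom_bijective J P K hP) _).1 ?_
    have : (fun g : P ⟶ X => g ≫ (DRing.RgammaIε J).app K) ∘ (fun g : T ⟶ X => ε ≫ g) =
        (fun h : T ⟶ K => ε ≫ h) ∘ fun g : T ⟶ X => g ≫ (DRing.RgammaIε J).app K :=
      funext fun g => Category.assoc _ _ _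
    rw [this]
    exact (GrothLib.RGamma.isCEquiv_ε I T K hK).comp (GrothLib.RGamma.hom_bijective J T K hT)
  refine (Function.Bijective.of_comp_iff' h1 _).1 ?_
  have : (fun φ : T ⟶ ((DRing.derivedCompletion I).obj X).obj => ε ≫ φ) ∘ (fun g : T ⟶ X => g ≫ c) =
      (fun g : P ⟶ X => g ≫ c) ∘ fun g : T ⟶ X => ε ≫ g :=
    funext fun g => (Category.assoc _ _ _).symm
  rw [this]
  exact h2.comp h3

/-- The completion of `RΓ_J` of a complete object is invertible in low degrees if its low cohomology is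
`J`-torsion. -/
theorem homology_bijective (K : Dual.D A) (hK : DRing.IsDerivedComplete I K) (s : ℤ)
    (h : ∀ j ≤ s, LocCoh.IsPowerTorsion J
      (Dual.HD A ((DRing.derivedCompletion I).obj ((DRing.RgammaI J).obj K)).obj j))
    (i : ℤ) (hi : i ≤ s) :
    Function.Bijective ((DerivedCategory.homologyFunctor (ModuleCat.{u} A) i).map
      (DRing.toDerivedCompletion I ((DRing.RgammaI J).obj K))).hom := by
  let X := (DRing.RgammaI J).obj K
  let D := ((DRing.derivedCompletion I).obj X).obj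
  let c : X ⟶ D := DRing.toDerivedCompletion I X
  let F := DerivedCategory.homologyFunctor (ModuleCat.{u} A) i
  have trunc : ∀ Z : Dual.D A, ∃ (T W : Dual.D A) (ι : T ⟶ Z) (p : Z ⟶ W) (δ : W ⟶ T⟦(1 : ℤ)⟧),
      Triangle.mk ι p δ ∈ distTriang (Dual.D A) ∧ T.IsLE i ∧ W.IsGE (i + 1) ∧
      Function.Surjective (F.map ι).hom ∧
      ∀ j, Function.Injective ((DerivedCategory.homologyFunctor (ModuleCat.{u} A) j).map ι).hom := by
    intro Z
    obtain ⟨T, W, hT, hW, ι, p, δ, mem⟩ := DerivedCategory.TStructure.t.exists_triangle Z i (i + 1) rfl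
    haveI : T.IsLE i := ⟨hT⟩
    haveI : W.IsGE (i + 1) := ⟨hW⟩
    refine ⟨T, W, ι, p, δ, mem, inferInstance, inferInstance, ?_, fun j => ?_⟩
    · rw [← ModuleCat.epi_iff_surjective]
      exact (DerivedCategory.HomologySequence.exact₂ (Triangle.mk ι p δ) mem i).epi_f
        ((DerivedCategory.isZero_of_isGE W (i + 1) i (by omega)).eq_of_tgt _ _)
    · by_cases hj : j ≤ i
      · rw [← ModuleCat.mono_iff_injective]
        refine (DerivedCategory.HomologySequence.mono_homologyMap_mor₁_iff (Triangle.mk ι p δ) mem (j - 1) j (by omega)).2 ?_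
        exact (DerivedCategory.isZero_of_isGE W (i + 1) (j - 1) (by omega)).eq_of_src _ _
      · intro x y _
        haveI : Subsingleton (Dual.HD A T j) :=
          ModuleCat.subsingleton_of_isZero (DerivedCategory.isZero_of_isLE T i j (by omega))
        exact Subsingleton.elim (α := Dual.HD A T j) x y
  obtain ⟨T, W, ι, p, δ, mem, hTle, hW, hsurj, hinj⟩ := trunc D
  haveI := hTle
  haveI := hW
  have hT : ∀ j, LocCoh.IsPowerTorsion J (Dual.HD A T j) := fun j x => by
    by_cases hj : j ≤ i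
    · obtain ⟨n, hn⟩ := h j (hj.trans hi)
        (((DerivedCategory.homologyFunctor (ModuleCat.{u} A) j).map ι).hom x)
      exact ⟨n, fun a ha => hinj j (by rw [map_smul, map_zero]; exact hn a ha)⟩
    · haveI : Subsingleton (Dual.HD A T j) :=
        ModuleCat.subsingleton_of_isZero (DerivedCategory.isZero_of_isLE T i j (by omega))
      exact ⟨0, fun a _ => Subsingleton.elim _ _⟩
  obtain ⟨g, hg⟩ := (hom_completion_bijective I J K hK T hT).2 ι
  change g ≫ c = ι at hg
  refine ⟨(injective_iff_map_eq_zero _).2 fun x hx => ?_, fun y => ?_⟩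
  · obtain ⟨T', W', ι', p', δ', mem', hT'le, hW', hsurj', hinj'⟩ := trunc X
    haveI := hT'le
    have hT' : ∀ j, LocCoh.IsPowerTorsion J (Dual.HD A T' j) := fun j x => by
      obtain ⟨n, hn⟩ := GrothLib.RGamma.isPowerTorsion_HD J K j
        (((DerivedCategory.homologyFunctor (ModuleCat.{u} A) j).map ι').hom x)
      exact ⟨n, fun a ha => hinj' j (by rw [map_smul, map_zero]; exact hn a ha)⟩
    obtain ⟨k, hk⟩ : ∃ k : T' ⟶ T, ι' ≫ c = k ≫ ι := Triangle.coyoneda_exact₂ (Triangle.mk ι p δ) mem (ι' ≫ c)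
      (DerivedCategory.TStructure.t.zero_of_isLE_of_isGE ((ι' ≫ c) ≫ p) i (i + 1) (by omega) hT'le hW)
    have hk' : ι' = k ≫ g := (hom_completion_bijective I J K hK T' hT').1 (by
      change ι' ≫ c = (k ≫ g) ≫ c
      rw [Category.assoc, hg]
      exact hk)
    obtain ⟨z, rfl⟩ := hsurj' x
    have h0 : (F.map ι).hom ((F.map k).hom z) = 0 := by
      rw [← hx]
      change _ = (F.map c).hom ((F.map ι').hom z)
      rw [← ConcreteCategory.comp_apply, ← ConcreteCategory.comp_apply, ← F.map_comp, ← F.map_comp, hk]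
    have h1 : (F.map k).hom z = 0 := hinj i (h0.trans (map_zero _).symm)
    rw [hk', F.map_comp]
    change (F.map g).hom ((F.map k).hom z) = 0
    rw [h1, map_zero]
  · obtain ⟨z, rfl⟩ := hsurj y
    refine ⟨(F.map g).hom z, ?_⟩
    change (F.map c).hom ((F.map g).hom z) = _
    rw [← hg, F.map_comp]
    rfl

/-- The completion of `RΓ_J` only depends on `V(J + I)`. -/
theorem nonempty_completion_iso_sup [DRing.HasRgammaI I] (J' : Ideal A) [DRing.HasRgammaI J']
    (h : J ⊔ I ≤ J'.radical) (h' : J' ≤ (J ⊔ I).radical) (K : Dual.D A) :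
    Nonempty (((DRing.derivedCompletion I).obj ((DRing.RgammaI J').obj K)).obj ≅
      ((DRing.derivedCompletion I).obj ((DRing.RgammaI J).obj K)).obj) := by
  haveI := hasRgammaI (J ⊔ I)
  obtain ⟨e₁, -⟩ := nonempty_rgamma_iso J' (J ⊔ I) h' h K
  obtain ⟨e₂⟩ := GrothLib.RGamma.comp_iso_sup J I K
  haveI := GrothLib.RGamma.isCEquiv_map I (GrothLib.RGamma.isCEquiv_ε I ((DRing.RgammaI J).obj K))
  exact ⟨(ObjectProperty.ι (DRing.IsDerivedComplete I)).mapIso
    ((DRing.derivedCompletion I).mapIso (e₁ ≪≫ e₂.symm) ≪≫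
      asIso ((DRing.derivedCompletion I).map ((DRing.RgammaIε I).app ((DRing.RgammaI J).obj K))))⟩

/-- Torsion in the cohomology of a completion from torsion in the maps out of `RΓ_I A`. -/
theorem exists_pow_smul_completion [DRing.HasRgammaI I] (f : A) (X : Dual.D A) (i : ℤ)
    (h : ∀ ξ : (DRing.RgammaI I).obj (Dual.inD A A) ⟶ X⟦i⟧, ∃ n : ℕ, f ^ n • ξ = 0)
    (x : Dual.HD A ((DRing.derivedCompletion I).obj X).obj i) : ∃ n : ℕ, f ^ n • x = 0 := by
  let D := ((DRing.derivedCompletion I).obj X).obj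
  haveI : Projective (ModuleCat.of A A) := (IsProjective.iff_projective (R := A) A).1 inferInstance
  obtain ⟨φ, hφ⟩ := (GrothLib.DCpl.homHn_bijective (ModuleCat.of A A) D i).2
    (ModuleCat.ofHom (LinearMap.toSpanSingleton A _ x))
  let P := (DRing.RgammaI I).obj (Dual.inD A A)
  let ε : P ⟶ Dual.inD A A := (DRing.RgammaIε I).app (Dual.inD A A)
  obtain ⟨w, hw⟩ := ((isTorsEquiv_toDerivedCompletion I X).shift I i P
    fun j => GrothLib.RGamma.isPowerTorsion_HD I _ j).2 (ε ≫ φ)
  obtain ⟨n, hn⟩ := h w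
  refine ⟨n, ?_⟩
  have hφ0 : f ^ n • φ = 0 := by
    refine (GrothLib.RGamma.isCEquiv_ε I (Dual.inD A A) (D⟦i⟧)
      (GrothLib.RGamma.isDerivedComplete_shift I ((DRing.derivedCompletion I).obj X).property i)).1 ?_
    change ε ≫ (f ^ n • φ) = ε ≫ 0
    rw [comp_zero, Linear.comp_smul, ← hw]
    exact (Linear.smul_comp _ _ _ (f ^ n) w _).symm.trans ((congrArg (· ≫ _) hn).trans zero_comp)
  have h1 := GrothLib.DCpl.homHn_precomp (f ^ n • 𝟙 (ModuleCat.of A A)) φ
  rw [Functor.map_smul, CategoryTheory.Functor.map_id, Linear.smul_comp, Category.id_comp, hφ,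
    Linear.smul_comp, Category.id_comp, hφ0] at h1
  have h0 : GrothLib.DCpl.homHn (ModuleCat.of A A) D i 0 = 0 := by
    have := GrothLib.DCpl.homHn_precomp (0 : ModuleCat.of A A ⟶ ModuleCat.of A A) φ
    rwa [Functor.map_zero, zero_comp, zero_comp] at this
  rw [h0] at h1
  have h2 := ConcreteCategory.congr_hom h1 1
  change (0 : Dual.HD A D i) = f ^ n • ((1 : A) • x) at h2
  rw [one_smul] at h2
  exact h2.symm

end GrothLib.DerComplBij3
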