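import Groth.Agent.Lib.DerComplBij3.Torsion
import Groth.Agent.Lib.RGamma.CechH0
import Groth.Agent.Lib.RGamma.CechRlim
import Mathlib.RingTheory.Filtration

/-!
# The bottom degree of the completion of `RΓ_K`
-/

set_option autoImplicit false
set_option linter.style.haveILetI false
set_option linter.unusedSectionVars false
universe u

open CategoryTheory CategoryTheory.Limits Pretriangulated GrothLib.DualCx22

attribute [local instance] HasDerivedCategory.standard

namespace GrothLib.DerComplBij3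

variable {A : Type u} [CommRing A] [IsNoetherianRing A] (K : Ideal A) [DRing.HasRgammaI K]

/-- `RΓ` commutes with shifts. -/
theorem exists_rgamma_shift_iso (Y : Dual.D A) (a : ℤ) :
    ∃ e : (DRing.RgammaI K).obj (Y⟦a⟧) ≅ ((DRing.RgammaI K).obj Y)⟦a⟧,
      e.hom ≫ ((DRing.RgammaIε K).app Y)⟦a⟧' = (DRing.RgammaIε K).app (Y⟦a⟧) := by
  have h1 := fun i => GrothLib.RGamma.isPowerTorsion_HD K (Y⟦a⟧) i
  have h2 : ∀ i, LocCoh.IsPowerTorsion K (Dual.HD A (((DRing.RgammaI K).obj Y)⟦a⟧) i) := fun i =>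
    isPowerTorsion_shift K (fun j => GrothLib.RGamma.isPowerTorsion_HD K Y j) a i
  have hε : IsTorsEquiv K (((DRing.RgammaIε K).app Y)⟦a⟧') :=
    IsTorsEquiv.shift K (fun L hL => GrothLib.RGamma.hom_bijective K L Y hL) a
  obtain ⟨u, hu⟩ := (hε _ h1).2 ((DRing.RgammaIε K).app (Y⟦a⟧))
  obtain ⟨v, hv⟩ := (GrothLib.RGamma.hom_bijective K _ (Y⟦a⟧) h2).2 (((DRing.RgammaIε K).app Y)⟦a⟧')
  refine ⟨⟨u, v, (GrothLib.RGamma.hom_bijective K _ (Y⟦a⟧) h1).1 ?_, (hε _ h2).1 ?_⟩, hu⟩
  · change (u ≫ v) ≫ _ = 𝟙 _ ≫ _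
    rw [Category.assoc, Category.id_comp]
    exact (congrArg (u ≫ ·) hv).trans hu
  · change (v ≫ u) ≫ _ = 𝟙 _ ≫ _
    rw [Category.assoc, Category.id_comp]
    exact (congrArg (v ≫ ·) hu).trans hv

/-- `RΓ` is exact in the middle of a triangle. -/
theorem exists_lift_of_triangle (T : Triangle (Dual.D A)) (hT : T ∈ distTriang (Dual.D A)) (P : Dual.D A) (t : ℤ)
    (ξ : P ⟶ ((DRing.RgammaI K).obj T.obj₂)⟦t⟧) (hξ : ξ ≫ ((DRing.RgammaI K).map T.mor₂)⟦t⟧' = 0) :
    ∃ η : P ⟶ ((DRing.RgammaI K).obj T.obj₁)⟦t⟧, η ≫ ((DRing.RgammaI K).map T.mor₁)⟦t⟧' = ξ := by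
  obtain ⟨Z, p, δ, hC⟩ := distinguished_cocone_triangle ((DRing.RgammaI K).map T.mor₂)
  let S := (Triangle.mk ((DRing.RgammaI K).map T.mor₂) p δ).invRotate
  have hS : S ∈ distTriang (Dual.D A) := inv_rot_of_distTriang _ hC
  have hZ := GrothLib.RGamma.isPowerTorsion_obj₃ K (IsNoetherian.noetherian K) (Triangle.mk _ p δ) hC
    (fun i => GrothLib.RGamma.isPowerTorsion_HD K _ i) (fun i => GrothLib.RGamma.isPowerTorsion_HD K _ i)
  have hC1 : ∀ i, LocCoh.IsPowerTorsion K (Dual.HD A S.obj₁ i) := fun i => isPowerTorsion_shift K hZ (-1) i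
  let c : S.obj₁ ⟶ (DRing.RgammaI K).obj T.obj₂ := S.mor₁
  have hc : c ≫ (DRing.RgammaI K).map T.mor₂ = 0 := comp_distTriang_mor_zero₁₂ S hS
  obtain ⟨w, hw⟩ := Triangle.coyoneda_exact₂ T hT (c ≫ (DRing.RgammaIε K).app T.obj₂) (by
    have hn := (DRing.RgammaIε K).naturality T.mor₂
    refine (Category.assoc _ _ _).trans (((congrArg (c ≫ ·) hn.symm).trans (Category.assoc _ _ _).symm).trans ?_)
    exact (congrArg (· ≫ (DRing.RgammaIε K).app T.obj₃) hc).trans zero_comp)
  obtain ⟨v, hv⟩ := (GrothLib.RGamma.hom_bijective K _ T.obj₁ hC1).2 w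
  have hvc : v ≫ (DRing.RgammaI K).map T.mor₁ = c := (GrothLib.RGamma.hom_bijective K _ T.obj₂ hC1).1 (by
    have hn := (DRing.RgammaIε K).naturality T.mor₁
    change (v ≫ _) ≫ _ = c ≫ _
    refine (Category.assoc _ _ _).trans (((congrArg (v ≫ ·) hn).trans (Category.assoc _ _ _).symm).trans ?_)
    exact (congrArg (· ≫ T.mor₁) hv).trans hw.symm)
  let S' := (Triangle.shiftFunctor (Dual.D A) t).obj S
  obtain ⟨η, hη⟩ := Triangle.coyoneda_exact₂ S' (Triangle.shift_distinguished S hS t) ξ (by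
    refine (Preadditive.comp_zsmul ξ (S.mor₂⟦t⟧' : ((DRing.RgammaI K).obj T.obj₂)⟦t⟧ ⟶ S.obj₃⟦t⟧)
      (t.negOnePow : ℤ)).trans ?_
    exact (congrArg ((t.negOnePow : ℤ) • ·) hξ).trans (zsmul_zero _))
  let η' : P ⟶ S.obj₁⟦t⟧ := η
  refine ⟨((t.negOnePow : ℤ) • η') ≫ v⟦t⟧', ?_⟩
  rw [Category.assoc, ← Functor.map_comp, hvc, hη]
  change ((t.negOnePow : ℤ) • η') ≫ c⟦t⟧' = η' ≫ ((t.negOnePow : ℤ) • c⟦t⟧')
  rw [Preadditive.zsmul_comp, Preadditive.comp_zsmul]

variable (I : Ideal A) [DRing.HasRgammaI I]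

/-- Every map `RΓ_I A ⟶ RΓ_K W⟦t⟧` is killed by `a`. -/
def Killed (a : A) (W : Dual.D A) (t : ℤ) : Prop :=
  ∀ ξ : gA I ⟶ ((DRing.RgammaI K).obj W)⟦t⟧, a • ξ = 0

variable {K I}

theorem Killed.of_iso {a : A} {W W' : Dual.D A} (e : W ≅ W') {t : ℤ} (h : Killed K I a W t) : Killed K I a W' t := by
  intro ξ
  refine (cancel_mono (((DRing.RgammaI K).map e.inv)⟦t⟧')).1 ?_
  rw [zero_comp, Linear.smul_comp]
  exact h _

theorem Killed.of_shift {a : A} {W : Dual.D A} (b t : ℤ) (h : Killed K I a W (b + t)) : Killed K I a (W⟦b⟧) t := by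
  obtain ⟨e, -⟩ := exists_rgamma_shift_iso K W b
  intro ξ
  refine (cancel_mono (e.hom⟦t⟧' ≫ (shiftFunctorAdd (Dual.D A) b t).inv.app _)).1 ?_
  rw [zero_comp, Linear.smul_comp]
  exact h _

theorem Killed.of_isZero {a : A} {W : Dual.D A} (hW : IsZero W) (t : ℤ) : Killed K I a W t := by
  intro ξ
  have h1 : IsZero ((DRing.RgammaI K).obj W) := (IsZero.iff_id_eq_zero _).2
    ((GrothLib.RGamma.hom_bijective K _ W fun i => GrothLib.RGamma.isPowerTorsion_HD K W i).1 (hW.eq_of_tgt _ _))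
  exact ((CategoryTheory.shiftFunctor (Dual.D A) t).map_isZero h1).eq_of_tgt _ _

theorem Killed.mul {a b : A} {T : Triangle (Dual.D A)} (hT : T ∈ distTriang (Dual.D A)) {t : ℤ}
    (h₁ : Killed K I a T.obj₁ t) (h₃ : Killed K I b T.obj₃ t) : Killed K I (a * b) T.obj₂ t := by
  intro ξ
  obtain ⟨η, hη⟩ := exists_lift_of_triangle K T hT _ t (b • ξ) (by rw [Linear.smul_comp]; exact h₃ _)
  rw [mul_smul, ← hη, ← Linear.smul_comp, h₁ η, zero_comp]

theorem homHn_postcomp (X X' : Dual.D A) (i : ℤ) (g : X ⟶ X') (φ : Dual.inD A A ⟶ X⟦i⟧) :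
    GrothLib.DCpl.homHn (ModuleCat.of A A) X' i (φ ≫ g⟦i⟧') =
      GrothLib.DCpl.homHn (ModuleCat.of A A) X i φ ≫ (DerivedCategory.homologyFunctor (ModuleCat.{u} A) i).map g := by
  simp only [GrothLib.DCpl.homHn, Category.assoc]
  refine (congrArg (· ≫ _) (GrothLib.DCpl.homH0_comp φ (g⟦i⟧'))).trans ((Category.assoc _ _ _).trans ?_)
  exact congrArg (GrothLib.DCpl.homH0 (ModuleCat.of A A) _ φ ≫ ·)
    (((DerivedCategory.homologyFunctor (ModuleCat.{u} A) 0).shiftIso i 0 i (add_zero i)).hom.naturality g)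

variable [DRing.HasDerivedCompletion I]

theorem killed_module_neg (M : Type u) [AddCommGroup M] [Module A M] [Module.Finite A M] (t : ℤ) (ht : t < 0) (a : A) :
    Killed K I a (Dual.inD A M) t := by
  obtain ⟨s, hs⟩ : K.FG := IsNoetherian.noetherian K
  intro ξ
  have hfs : Ideal.span {x | x ∈ s.toList} = K := by
    rw [show {x | x ∈ s.toList} = (s : Set A) from Set.ext fun x => Finset.mem_toList]; exact hs
  rw [eq_zero_of_completion I _ t (GrothLib.RGamma.subsingleton_HD_completion_neg (I := I) (J := K) (fs := s.toList) (M := ModuleCat.of A M) hfs t ht) ξ, smul_zero]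

/-- In degree zero a map is determined by its composite with the augmentation. -/
theorem eq_zero_of_comp_ε [IsAdicComplete I A] (M : Type u) [AddCommGroup M] [Module A M] [Module.Finite A M]
    (ξ : gA I ⟶ ((DRing.RgammaI K).obj (Dual.inD A M))⟦(0 : ℤ)⟧)
    (hξ : ξ ≫ ((DRing.RgammaIε K).app (Dual.inD A M))⟦(0 : ℤ)⟧' = 0) : ξ = 0 := by
  obtain ⟨s, hs⟩ : K.FG := IsNoetherian.noetherian K
  have hfs : Ideal.span {x | x ∈ s.toList} = K := by
    rw [show {x | x ∈ s.toList} = (s : Set A) from Set.ext fun x => Finset.mem_toList]; exact hs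
  let X := (DRing.RgammaI K).obj (Dual.inD A M)
  let D := ((DRing.derivedCompletion I).obj X).obj
  let c := DRing.toDerivedCompletion I X
  let g : D ⟶ ((DRing.derivedCompletion I).obj (Dual.inD A M)).obj :=
    (ObjectProperty.ι (DRing.IsDerivedComplete I)).map
      ((DRing.derivedCompletion I).map ((DRing.RgammaIε K).app (Dual.inD A M)))
  have hn : c ≫ g = (DRing.RgammaIε K).app (Dual.inD A M) ≫ DRing.toDerivedCompletion I (Dual.inD A M) :=
    ((DRing.derivedCompletionAdj I).unit.naturality _).symm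
  obtain ⟨φ, hφ⟩ := exists_factor I ((DRing.derivedCompletion I).obj X).property 0 (ξ ≫ c⟦(0 : ℤ)⟧')
  have h1 : φ ≫ g⟦(0 : ℤ)⟧' = 0 := by
    refine (GrothLib.RGamma.isCEquiv_ε I (Dual.inD A A) _ (GrothLib.RGamma.isDerivedComplete_shift I
      ((DRing.derivedCompletion I).obj (Dual.inD A M)).property 0)).1 ?_
    change (DRing.RgammaIε I).app (Dual.inD A A) ≫ φ ≫ _ = (DRing.RgammaIε I).app (Dual.inD A A) ≫ 0
    rw [comp_zero, ← Category.assoc, hφ, Category.assoc, ← Functor.map_comp, hn, Functor.map_comp, ← Category.assoc,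
      hξ, zero_comp]
  have hinj : Function.Injective ((DerivedCategory.homologyFunctor (ModuleCat.{u} A) 0).map g).hom := by
    obtain ⟨i, i', -, h2⟩ := GrothLib.RGamma.exists_completion_eps I K s.toList hfs (ModuleCat.of A M)
    have hg : g ≫ i'.hom = i.hom ≫ GrothLib.RGamma.hatε I s.toList (ModuleCat.of A M) := h2
    let F := DerivedCategory.homologyFunctor (ModuleCat.{u} A) 0
    have h3 : Function.Injective (F.map (g ≫ i'.hom)).hom := by
      rw [hg, Functor.map_comp, ModuleCat.hom_comp, LinearMap.coe_comp]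
      exact (GrothLib.RGamma.injective_hatε I s.toList (ModuleCat.of A M)).comp
        (ConcreteCategory.bijective_of_isIso (F.map i.hom)).1
    rw [Functor.map_comp, ModuleCat.hom_comp, LinearMap.coe_comp] at h3
    exact Function.Injective.of_comp h3
  haveI : Projective (ModuleCat.of A A) := (IsProjective.iff_projective (R := A) A).1 inferInstance
  have h4 : φ = 0 := by
    refine (GrothLib.DCpl.homHn_bijective (ModuleCat.of A A) D 0).1 ?_
    rw [homHn_zero]
    refine ModuleCat.hom_ext (LinearMap.ext fun x => hinj ?_)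
    have h5 := homHn_postcomp D _ 0 g φ
    rw [h1, homHn_zero] at h5
    exact ((ConcreteCategory.congr_hom h5 x).symm.trans (map_zero _).symm)
  refine ((isTorsEquiv_toDerivedCompletion I X).shift I 0 (gA I)
    fun j => GrothLib.RGamma.isPowerTorsion_HD I _ j).1 ?_
  change ξ ≫ c⟦(0 : ℤ)⟧' = (0 : gA I ⟶ X⟦(0 : ℤ)⟧) ≫ _
  rw [← hφ, h4, comp_zero, zero_comp]

variable [IsAdicComplete I A] (P : PrimeSpectrum A) (hIP : I ≤ P.asIdeal) {g : A} (hgK : g ∈ K) (hgP : g ∉ P.asIdeal)

include hIP hgK hgP in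
/-- The degree zero maps into `RΓ_K M` are killed outside `P`. -/
theorem exists_killed_zero (M : Type u) [AddCommGroup M] [Module A M] [Module.Finite A M] :
    ∃ a : A, a ∉ P.asIdeal ∧ Killed K I a (Dual.inD A M) 0 := by
  classical
  let MP := LocalizedModule P.asIdeal.primeCompl M
  let l : M →ₗ[A] MP := LocalizedModule.mkLinearMap P.asIdeal.primeCompl M
  obtain ⟨s, hs⟩ : (LinearMap.ker l).FG := IsNoetherian.noetherian _
  have hex : ∀ x : {x // x ∈ s}, ∃ a : A, a ∉ P.asIdeal ∧ a • (x : M) = 0 := fun x => by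
    have hx : (x : M) ∈ LinearMap.ker l := hs ▸ Submodule.subset_span x.2
    obtain ⟨c, hc⟩ := (IsLocalizedModule.eq_zero_iff P.asIdeal.primeCompl l).1 (LinearMap.mem_ker.1 hx)
    exact ⟨c.1, c.2, hc⟩
  choose a ha ha0 using hex
  refine ⟨∏ x : {x // x ∈ s}, a x, fun h => ?_, fun ξ => eq_zero_of_comp_ε M _ ?_⟩
  · obtain ⟨x, -, hx⟩ := P.2.prod_mem_iff.1 h
    exact ha x hx
  have hkill : ∀ z ∈ LinearMap.ker l, (∏ x : {x // x ∈ s}, a x) • z = 0 := by
    intro z hz
    rw [← hs] at hz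
    induction hz using Submodule.span_induction with
    | mem x hx =>
      rw [← Finset.prod_erase_mul _ _ (Finset.mem_univ ⟨x, hx⟩), mul_smul, ha0 ⟨x, hx⟩, smul_zero]
    | zero => exact smul_zero _
    | add x y _ _ hx hy => rw [smul_add, hx, hy, add_zero]
    | smul c x _ hx => rw [smul_comm, hx, smul_zero]
  have hMc : DRing.IsDerivedComplete I (Dual.inD A M) := isDerivedComplete_of_finite I _ (finite_HD_inD M)
  rw [Linear.smul_comp]
  obtain ⟨φ, hφ⟩ := exists_factor I hMc 0 (ξ ≫ ((DRing.RgammaIε K).app (Dual.inD A M))⟦(0 : ℤ)⟧')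
  rw [← hφ, ← Linear.comp_smul]
  suffices h : (∏ x : {x // x ∈ s}, a x) • φ = 0 by rw [h, comp_zero]
  haveI : Projective (ModuleCat.of A A) := (IsProjective.iff_projective (R := A) A).1 inferInstance
  refine (GrothLib.DCpl.homHn_bijective (ModuleCat.of A A) (Dual.inD A M) 0).1 ?_
  rw [homHn_zero, homHn_smul]
  refine ModuleCat.hom_ext (LinearMap.ext_ring ?_)
  let eM := ((DerivedCategory.singleFunctorCompHomologyFunctorIso (ModuleCat.{u} A) 0).app
    (ModuleCat.of A M)).toLinearEquiv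
  apply eM.injective
  change eM ((∏ x : {x // x ∈ s}, a x) • (GrothLib.DCpl.homHn (ModuleCat.of A A) (Dual.inD A M) 0 φ).hom 1) = eM 0
  rw [map_smul, map_zero]
  refine hkill _ (LinearMap.mem_ker.2 ?_)
  let z : M := eM ((GrothLib.DCpl.homHn (ModuleCat.of A A) (Dual.inD A M) 0 φ).hom 1)
  change l z = 0
  let F := DerivedCategory.singleFunctor (ModuleCat.{u} A) 0
  have hmem : ∀ m : ℕ, l z ∈ (I ^ m • ⊤ : Submodule A MP) := by
    intro m
    let q := Submodule.mkQ (I ^ m • ⊤ : Submodule A MP)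
    let h : M →ₗ[A] (MP ⧸ (I ^ m • ⊤ : Submodule A MP)) := q ∘ₗ l
    have hQc : DRing.IsDerivedComplete I (Dual.inD A (MP ⧸ (I ^ m • ⊤ : Submodule A MP))) := by
      rw [GrothLib.DCpl.isDerivedComplete_inD_iff]
      intro f hf
      refine GrothLib.DCpl.DCMod.of_pow m (GrothLib.FSecDual7.dcMod_of_smul_eq_zero fun x => ?_)
      obtain ⟨x, rfl⟩ := Submodule.Quotient.mk_surjective _ x
      exact (Submodule.Quotient.mk_eq_zero _).2 (Submodule.smul_mem_smul (Ideal.pow_mem_pow hf m) trivial)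
    have hbij : ∀ n : ℤ, Function.Bijective fun x : ((HomologicalComplex.single (ModuleCat.{u} A)
        (ComplexShape.up ℤ) 0).obj (ModuleCat.of A MP)).X n => g • x := fun n => by
      by_cases hn : n = 0
      · subst hn
        let e := (HomologicalComplex.singleObjXSelf (ComplexShape.up ℤ) 0 (ModuleCat.of A MP)).toLinearEquiv
        have hb : Function.Bijective fun x : MP => g • x := (Module.End.isUnit_iff _).1
          (IsLocalizedModule.map_units l (⟨g, hgP⟩ : P.asIdeal.primeCompl))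
        refine ⟨fun x y hxy => e.injective (hb.1 ?_), fun y => ?_⟩
        · change g • e x = g • e y
          rw [← map_smul, ← map_smul]
          exact congrArg e hxy
        · obtain ⟨x, hx⟩ := hb.2 (e y)
          exact ⟨e.symm x, e.injective (by rw [map_smul, e.apply_symm_apply]; exact hx)⟩
      · haveI : Subsingleton (((HomologicalComplex.single (ModuleCat.{u} A) (ComplexShape.up ℤ) 0).obj
            (ModuleCat.of A MP)).X n) :=
          ModuleCat.subsingleton_of_isZero (HomologicalComplex.isZero_single_obj_X _ _ _ _ hn)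
        exact ⟨fun x y _ => Subsingleton.elim _ _, fun y => ⟨y, Subsingleton.elim _ _⟩⟩
    have h0 : (DRing.RgammaIε K).app (Dual.inD A M) ≫ F.map (ModuleCat.ofHom h) = 0 := by
      have h1 : (DRing.RgammaIε K).app (Dual.inD A M) ≫ F.map (ModuleCat.ofHom l) = 0 := by
        let eS := GrothLib.DCpl.eSingle (ModuleCat.of A MP)
        let e0 : Dual.inD A MP ≅ (DRing.toD ((HomologicalComplex.single (ModuleCat.{u} A) (ComplexShape.up ℤ) 0).obj
            (ModuleCat.of A MP)))⟦(0 : ℤ)⟧ := eS ≪≫ ((shiftFunctorZero (Dual.D A) ℤ).app _).symm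
        refine (cancel_mono e0.hom).1 ?_
        exact (GrothLib.RGamma.hom_eq_zero_of_smul_bijective K _ g hgK hbij _
          (fun i => GrothLib.RGamma.isPowerTorsion_HD K _ i) 0 _).trans zero_comp.symm
      rw [show ModuleCat.ofHom h = ModuleCat.ofHom l ≫ ModuleCat.ofHom q from rfl, F.map_comp, ← Category.assoc]
      exact (congrArg (· ≫ F.map (ModuleCat.ofHom q)) h1).trans zero_comp
    have h2 : φ ≫ (F.map (ModuleCat.ofHom h))⟦(0 : ℤ)⟧' = 0 := by
      refine (GrothLib.RGamma.isCEquiv_ε I (Dual.inD A A) _ (GrothLib.RGamma.isDerivedComplete_shift I hQc 0)).1 ?_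
      change (DRing.RgammaIε I).app (Dual.inD A A) ≫ φ ≫ _ = (DRing.RgammaIε I).app (Dual.inD A A) ≫ 0
      rw [comp_zero, ← Category.assoc, hφ, Category.assoc, ← Functor.map_comp, h0, Functor.map_zero, comp_zero]
    have h5 := homHn_postcomp (Dual.inD A M) (Dual.inD A (MP ⧸ (I ^ m • ⊤ : Submodule A MP))) 0
      (F.map (ModuleCat.ofHom h)) φ
    rw [h2, homHn_zero] at h5
    have h6 := ConcreteCategory.congr_hom h5.symm 1
    have hnat := ConcreteCategory.congr_hom
      ((DerivedCategory.singleFunctorCompHomologyFunctorIso (ModuleCat.{u} A) 0).hom.naturality (ModuleCat.ofHom h))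
      ((GrothLib.DCpl.homHn (ModuleCat.of A A) (Dual.inD A M) 0 φ).hom 1)
    refine (Submodule.Quotient.mk_eq_zero _).1 (?_ : h z = 0)
    refine Eq.trans ?_ ((congrArg
      ((DerivedCategory.singleFunctorCompHomologyFunctorIso (ModuleCat.{u} A) 0).hom.app
        (ModuleCat.of A (MP ⧸ (I ^ m • ⊤ : Submodule A MP)))).hom h6).trans (map_zero _))
    exact hnat.symm
  -- Krull intersection at `P`
  let AP := Localization.AtPrime P.asIdeal
  haveI : Module.Finite AP MP := Module.Finite.equiv (LocalizedModule.isBaseChange P.asIdeal.primeCompl M).equiv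
  have hle : ∀ m : ℕ, ∀ x ∈ (I ^ m • ⊤ : Submodule A MP),
      x ∈ ((IsLocalRing.maximalIdeal AP) ^ m • ⊤ : Submodule AP MP) := by
    intro m x hx
    induction hx using Submodule.smul_induction_on' with
    | smul c hc y _ =>
      rw [← algebraMap_smul AP c y]
      refine Submodule.smul_mem_smul (Ideal.pow_right_mono (le_refl (IsLocalRing.maximalIdeal AP)) m ?_) trivial
      rw [← Localization.AtPrime.map_eq_maximalIdeal, ← Ideal.map_pow]
      exact Ideal.mem_map_of_mem _ (Ideal.pow_right_mono hIP m hc)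
    | add x _ y _ hx hy => exact add_mem hx hy
  have hinf := Ideal.iInf_pow_smul_eq_bot_of_isLocalRing (I := IsLocalRing.maximalIdeal AP) (M := MP)
    (IsLocalRing.maximalIdeal.isMaximal AP).ne_top
  have : l z ∈ (⊥ : Submodule AP MP) := hinf ▸ (Submodule.mem_iInf _).2 fun m => hle m _ (hmem m)
  exact (Submodule.mem_bot _).1 this

include hIP hgK hgP in
/-- Objects in degrees `≥ n` with finite cohomology: maps in degrees `≤ n` are killed outside `P`. -/
theorem exists_killed_bottom (n : ℤ) : ∀ (k : ℕ) (W : Dual.D A) (b : ℤ),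
    (∀ i, b < i → Subsingleton (Dual.HD A W i)) → (∀ i, i ≤ b - (k : ℤ) → Subsingleton (Dual.HD A W i)) →
    (∀ i, i < n → Subsingleton (Dual.HD A W i)) → (∀ i, Module.Finite A (Dual.HD A W i)) →
    ∃ a : A, a ∉ P.asIdeal ∧ ∀ t, t ≤ n → Killed K I a W t := by
  intro k
  induction k with
  | zero =>
    intro W b hb ha _ _
    exact ⟨1, (Ideal.ne_top_iff_one _).1 P.2.ne_top, fun t _ => Killed.of_isZero
      (GrothLib.RGamma.isZero_of_subsingleton_HD fun i => by
        by_cases hi : b < i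
        · exact hb i hi
        · exact ha i (by push_cast; omega)) t⟩
  | succ k ih =>
    intro W b hb ha hn hfin
    obtain ⟨T, hT, rfl, ⟨e⟩, hlt, hge⟩ := GrothLib.DualRing.exists_top_triangle W b hb
    obtain ⟨a₁, ha₁, h₁⟩ := ih T.obj₁ (b - 1) (fun i hi => hge i (by omega)) (fun i hi => by
        obtain ⟨g'⟩ := hlt i (by omega)
        haveI := ha i (by push_cast at hi ⊢; omega)
        exact g'.toEquiv.subsingleton)
      (fun i hi => by
        by_cases hib : i < b
        · obtain ⟨g'⟩ := hlt i hib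
          haveI := hn i hi
          exact g'.toEquiv.subsingleton
        · exact hge i (by omega))
      (fun i => by
        by_cases hib : i < b
        · obtain ⟨g'⟩ := hlt i hib
          haveI := hfin i
          exact Module.Finite.equiv g'.symm
        · haveI := hge i (by omega)
          exact ⟨⟨∅, Subsingleton.elim _ _⟩⟩)
    haveI := hfin b
    obtain ⟨a₃, ha₃, h₃⟩ := exists_killed_zero (K := K) P hIP hgK hgP (Dual.HD A T.obj₂ b)
    refine ⟨a₁ * a₃, fun h => (P.2.mem_or_mem h).elim ha₁ ha₃, fun t ht => (h₁ t ht).mul hT ?_⟩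
    refine Killed.of_iso e.symm (Killed.of_shift (-b) t ?_)
    rcases lt_trichotomy (-b + t) 0 with h | h | h
    · exact killed_module_neg _ _ h _
    · rw [h]; exact h₃
    · haveI := hn b (by omega)
      exact Killed.of_isZero ((DerivedCategory.singleFunctor (ModuleCat.{u} A) 0).map_isZero
        (ModuleCat.isZero_of_subsingleton (ModuleCat.of A (Dual.HD A T.obj₂ b)))) _

end GrothLib.DerComplBij3
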