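import Groth.Agent.S0332
import Groth.Agent.Lib.HLVT.Ara
import Groth.Agent.Lib.LC.BaseChange
import Groth.Agent.Lib.LC.RightExact
import Groth.Agent.Lib.AdicLim.Finite

/-!
# Top local cohomology over a ring complete along an ideal
-/

set_option autoImplicit false
set_option linter.style.haveILetI false
universe u

open CategoryTheory IsLocalRing

namespace GrothLib.DerComplBij3

variable {R : Type u} [CommRing R] [IsLocalRing R] [IsNoetherianRing R]

/-- An `I`-complete local domain with `dim R/I > 0` has no formal component meeting `V(I)` only in the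
closed point. -/
theorem one_le_ringKrullDim_sup [IsDomain R] (I : Ideal R) [IsAdicComplete I R] (P : Ideal R) [P.IsPrime]
    (hP : I ≤ P) (hPm : P ≠ maximalIdeal R)
    (Q : Ideal (AdicCompletion (maximalIdeal R) R)) (hQ : Q ∈ minimalPrimes _) :
    1 ≤ ringKrullDim (AdicCompletion (maximalIdeal R) R ⧸
      (I.map (algebraMap R (AdicCompletion (maximalIdeal R) R)) ⊔ Q)) := by
  set C := AdicCompletion (maximalIdeal R) R
  haveI : Q.IsPrime := hQ.1.1
  let g : R →+* C ⧸ Q := (Ideal.Quotient.mk Q).comp (algebraMap R C)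
  have hg : Function.Injective g := by
    rw [injective_iff_map_eq_zero]
    intro r hr
    by_contra hne
    have hmem : algebraMap R C r ∈ Q := Ideal.Quotient.eq_zero_iff_mem.1 hr
    have hreg : algebraMap R C r ∈ nonZeroDivisors C := by
      refine mem_nonZeroDivisors_iff_right.2 fun c hc => ?_
      haveI : Module.Flat R C := AdicCompletion.flat_of_isNoetherian _
      have h := Module.Flat.rTensor_preserves_injective_linearMap (M := C)
        (LinearMap.lsmul R R r) (mul_right_injective₀ hne)
      have h' : IsSMulRegular C r := fun x y hxy => by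
        refine (TensorProduct.lid R C).symm.injective (h ?_)
        simp only [TensorProduct.lid_symm_apply, LinearMap.rTensor_tmul, LinearMap.lsmul_apply]
        rw [TensorProduct.smul_tmul, TensorProduct.smul_tmul]
        exact congrArg _ hxy
      refine h' ?_
      change r • c = r • 0
      rw [smul_zero, Algebra.smul_def, mul_comm]
      exact hc
    exact Set.disjoint_left.1 (Ideal.disjoint_nonZeroDivisors_of_mem_minimalPrimes hQ) hmem hreg
  rw [ringKrullDim_quotient]
  by_contra hlt
  -- every prime over `I C + Q` is maximal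
  haveI : IsLocalRing C := inferInstance
  have hall : ∀ q : PrimeSpectrum C, I.map (algebraMap R C) ⊔ Q ≤ q.asIdeal → q.asIdeal = maximalIdeal C := by
    intro q hq
    by_contra hne
    apply hlt
    rw [Order.one_le_krullDim_iff]
    exact ⟨⟨q, hq⟩, ⟨closedPoint C, hq.trans (le_maximalIdeal q.2.ne_top)⟩,
      lt_of_le_of_ne (le_maximalIdeal q.2.ne_top) fun h => hne (congrArg (fun x => x.1.asIdeal) h)⟩
  have hrad : maximalIdeal C ≤ (I.map (algebraMap R C) ⊔ Q).radical := by
    rw [Ideal.radical_eq_sInf]
    exact le_sInf fun q hq => (hall ⟨q, hq.2⟩ hq.1).ge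
  obtain ⟨N, hN⟩ := Ideal.exists_pow_le_of_le_radical_of_fg hrad (IsNoetherian.noetherian _)
  -- `R → C/Q` is bijective
  have hsurj : Function.Surjective g := by
    have hne : I.map g ≠ ⊤ := fun h => by
      haveI : IsLocalRing (C ⧸ Q) := IsLocalRing.of_surjective' (Ideal.Quotient.mk Q) Ideal.Quotient.mk_surjective
      have hle : I.map g ≤ (maximalIdeal C).map (Ideal.Quotient.mk Q) := by
        rw [← Ideal.map_map]
        refine Ideal.map_mono ((Ideal.map_mono (le_maximalIdeal (ne_top_of_le_ne_top ‹P.IsPrime›.ne_top hP))).trans ?_)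
        exact (AdicCompletion.maximalIdeal_eq_map (R := R)).ge
      rw [h, top_le_iff] at hle
      have : (maximalIdeal C).map (Ideal.Quotient.mk Q) ≠ ⊤ := by
        intro h'
        have := congrArg (Ideal.comap (Ideal.Quotient.mk Q)) h'
        rw [Ideal.comap_map_of_surjective _ Ideal.Quotient.mk_surjective, Ideal.comap_top] at this
        rw [show Ideal.comap (Ideal.Quotient.mk Q) ⊥ = Q from Ideal.mk_ker,
          sup_eq_left.2 (le_maximalIdeal ‹Q.IsPrime›.ne_top)] at this
        exact (maximalIdeal.isMaximal C).ne_top this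
      exact this hle
    haveI : IsHausdorff (I.map g) (C ⧸ Q) := IsHausdorff.of_isDomain _ hne
    refine surjective_of_mk_map_comp_surjective (I := I) g fun z => ?_
    obtain ⟨y, rfl⟩ := Ideal.Quotient.mk_surjective z
    obtain ⟨x, rfl⟩ := Ideal.Quotient.mk_surjective y
    obtain ⟨r, hr⟩ := Ideal.Quotient.mk_surjective (AdicCompletion.evalₐ (maximalIdeal R) N x)
    refine ⟨r, (Ideal.Quotient.eq).2 ?_⟩
    change Ideal.Quotient.mk Q (algebraMap R C r) - Ideal.Quotient.mk Q x ∈ I.map g
    rw [← map_sub, ← Ideal.map_map]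
    have hker : algebraMap R C r - x ∈ (maximalIdeal C) ^ N := by
      rw [AdicCompletion.maximalIdeal_eq_map (R := R), ← Ideal.map_pow]
      have h0 : AdicCompletion.eval (maximalIdeal R) R N (algebraMap R C r - x) = 0 := by
        have h1 : AdicCompletion.evalₐ (maximalIdeal R) N (algebraMap R C r - x) = 0 := by
          rw [map_sub, AlgHom.commutes, ← hr]
          exact sub_self _
        rw [AdicCompletion.evalₐ, AlgHom.comp_apply] at h1
        exact (map_eq_zero_iff _ (AlgEquiv.injective _)).1 h1
      have h2 : algebraMap R C r - x ∈ ((maximalIdeal R) ^ N • ⊤ : Submodule R C) := by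
        rw [AdicCompletion.pow_smul_top_eq_ker_eval (IsNoetherian.noetherian _)]
        exact h0
      rwa [Ideal.smul_top_eq_map] at h2
    obtain ⟨a, ha, b, hb, hab⟩ := Submodule.mem_sup.1 (hN hker)
    rw [← hab, map_add, (Ideal.Quotient.eq_zero_iff_mem).2 hb, add_zero]
    exact Ideal.mem_map_of_mem _ ha
  -- so `P` would be maximal
  let e := RingEquiv.ofBijective g ⟨hg, hsurj⟩
  apply hPm
  let q' : Ideal (C ⧸ Q) := P.map e.toRingHom
  haveI : q'.IsPrime := Ideal.map_isPrime_of_equiv e
  let q : PrimeSpectrum C := ⟨q'.comap (Ideal.Quotient.mk Q), inferInstance⟩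
  have hq : I.map (algebraMap R C) ⊔ Q ≤ q.asIdeal := by
    refine sup_le ?_ ?_
    · rw [Ideal.map_le_iff_le_comap]
      exact fun r hr => Ideal.mem_map_of_mem e.toRingHom (hP hr)
    · intro z hz
      change Ideal.Quotient.mk Q z ∈ q'
      rw [(Ideal.Quotient.eq_zero_iff_mem).2 hz]
      exact zero_mem _
  refine (eq_maximalIdeal ?_)
  have hm := hall q hq
  have hq' : q' = q.asIdeal.map (Ideal.Quotient.mk Q) :=
    (Ideal.map_comap_of_surjective _ Ideal.Quotient.mk_surjective q').symm
  haveI : q.asIdeal.IsMaximal := hm ▸ maximalIdeal.isMaximal C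
  haveI : q'.IsMaximal := hq' ▸ Ideal.IsMaximal.map_of_surjective_of_ker_le Ideal.Quotient.mk_surjective
    (by rw [Ideal.mk_ker]; exact le_trans le_sup_right hq)
  have : P = q'.comap e.toRingHom := (Ideal.comap_map_of_bijective _ e.bijective).symm
  rw [this]
  exact Ideal.comap_isMaximal_of_surjective _ e.surjective

variable {A : Type u} [CommRing A] [IsLocalRing A] [IsNoetherianRing A]

/-- Over a ring complete along `I`, the top local cohomology of `A/r` with support in an ideal cutting out
`V(I)` on `V(r)` vanishes when `V(r) ∩ V(I)` is not just the closed point. -/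
theorem subsingleton_top (I : Ideal A) [IsAdicComplete I A] (r : Ideal A) [r.IsPrime] (P : Ideal A) [P.IsPrime]
    (hrP : r ≤ P) (hIP : I ≤ P) (hPm : P ≠ maximalIdeal A) (c : ℕ) (hc : ringKrullDim (A ⧸ r) = c)
    (I' : Ideal A) (hV : ∀ q : Ideal A, q.IsPrime → r ≤ q → (I ≤ q ↔ I' ≤ q)) :
    Subsingleton (LocCoh.H I' c (A ⧸ r)) := by
  let π := Ideal.Quotient.mk r
  let R := A ⧸ r
  haveI : IsLocalRing R := IsLocalRing.of_surjective' π Ideal.Quotient.mk_surjective
  haveI : IsAdicComplete I R := GrothLib.AdicLim.isAdicComplete_of_finite I R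
  haveI : IsAdicComplete (I.map (algebraMap A R)) R := (IsAdicComplete.map_algebraMap_iff I R).mpr inferInstance
  haveI : (P.map π).IsPrime := Ideal.map_isPrime_of_surjective Ideal.Quotient.mk_surjective (by
    rw [Ideal.mk_ker]; exact hrP)
  have hPm' : P.map π ≠ maximalIdeal R := by
    intro h
    have h1 := congrArg (Ideal.comap π) h
    rw [Ideal.comap_map_of_surjective _ Ideal.Quotient.mk_surjective,
      show Ideal.comap π ⊥ = r from Ideal.mk_ker, sup_eq_left.2 hrP] at h1
    exact hPm (h1.trans (eq_maximalIdeal (Ideal.comap_isMaximal_of_surjective π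
      Ideal.Quotient.mk_surjective)))
  have h0 : ∀ i, c ≤ i → ∀ (M : Type u) [AddCommGroup M] [Module R M],
      Subsingleton (LocCoh.H (I.map (algebraMap A R)) i M) := fun i hi M _ _ =>
    Groth.Agent.S0332.result R _ c hc
      (fun Q hQ _ => one_le_ringKrullDim_sup _ (P.map π) (Ideal.map_mono hIP) hPm' Q hQ) M i hi
  refine (GrothLib.LC.subsingleton_map_iff (R' := R) I' c R).1 ?_
  change Subsingleton (LocCoh.H (I'.map (algebraMap A R)) c R)
  cases c with
  | zero =>
    exfalso
    have hlt : r < P → False := fun hlt => by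
      have h1 := GrothLib.HLVT.ringKrullDim_quotient_add_one_le hlt
      rw [hc] at h1
      haveI : Nontrivial (A ⧸ P) := Ideal.Quotient.nontrivial_iff.2 (Ideal.IsPrime.ne_top inferInstance)
      have h2 := (add_le_add (ringKrullDim_nonneg_of_nontrivial (R := A ⧸ P)) le_rfl).trans h1
      norm_num at h2
    rcases eq_or_lt_of_le hrP with rfl | hlt'
    · have := GrothLib.HLVT.ringKrullDim_quotient_add_one_le
        (lt_of_le_of_ne (le_maximalIdeal (Ideal.IsPrime.ne_top (I := r) inferInstance)) hPm)
      rw [hc] at this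
      rename' this => h1
      haveI : Nontrivial (A ⧸ maximalIdeal A) := Ideal.Quotient.nontrivial_iff.2 (maximalIdeal.isMaximal A).ne_top
      have h2 := (add_le_add (ringKrullDim_nonneg_of_nontrivial (R := A ⧸ maximalIdeal A)) le_rfl).trans h1
      norm_num at h2
    · exact hlt hlt'
  | succ n =>
    refine GrothLib.HLVT.cdLE_of_radical (I := I.map (algebraMap A R)) ?_ (k := n)
      (fun M _ _ i hi => h0 i hi M) R (n + 1) (Nat.lt_succ_self n)
    intro q hq
    rw [Ideal.map_le_iff_le_comap, Ideal.map_le_iff_le_comap]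
    exact hV _ (Ideal.IsPrime.comap _) (fun x hx => by
      change π x ∈ q
      rw [(Ideal.Quotient.eq_zero_iff_mem).2 hx]
      exact zero_mem _)

end GrothLib.DerComplBij3
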