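import Groth.Agent.Lib.DerComplBij3.Basic
import Groth.Agent.Lib.DerComplBij3.Top
import Groth.Agent.Lib.KillCompl3.Basic
import Groth.Agent.Lib.FSecDual7.Killed
import Groth.Agent.Lib.InjMod.Matlis
import Groth.Agent.Lib.LC.Cd
import Mathlib.LinearAlgebra.TensorProduct.Quotient

/-!
# Torsion in maps from `RΓ_I A` to duals of finite modules
-/

set_option autoImplicit false
set_option linter.style.haveILetI false
set_option linter.unusedSectionVars false
universe u

open CategoryTheory CategoryTheory.Limits Pretriangulated GrothLib.DualCx22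

attribute [local instance] HasDerivedCategory.standard

namespace GrothLib.DerComplBij3

variable {A : Type u} [CommRing A]

/-- Every map `P ⟶ K⟦t⟧` is killed by a power of `f`. -/
def TV (f : A) (P K : Dual.D A) (t : ℤ) : Prop := ∀ ξ : P ⟶ K⟦t⟧, ∃ n : ℕ, f ^ n • ξ = 0

variable {f : A} {P : Dual.D A}

theorem tv_of_zero {K : Dual.D A} {t : ℤ} (h : ∀ ξ : P ⟶ K⟦t⟧, ξ = 0) : TV f P K t :=
  fun ξ => ⟨0, by rw [h ξ, smul_zero]⟩

theorem TV.of_iso {K L : Dual.D A} (e : K ≅ L) {t : ℤ} (h : TV f P K t) : TV f P L t := by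
  intro ξ
  obtain ⟨n, hn⟩ := h (ξ ≫ (CategoryTheory.shiftFunctor (Dual.D A) t).map e.inv)
  refine ⟨n, (cancel_mono ((CategoryTheory.shiftFunctor (Dual.D A) t).map e.inv)).1 ?_⟩
  rw [zero_comp, Linear.smul_comp]
  exact hn

theorem TV.shift {K : Dual.D A} (a t : ℤ) (h : TV f P K (a + t)) : TV f P (K⟦a⟧) t := by
  intro ξ
  obtain ⟨n, hn⟩ := h (ξ ≫ (shiftFunctorAdd (Dual.D A) a t).inv.app K)
  refine ⟨n, (cancel_mono ((shiftFunctorAdd (Dual.D A) a t).inv.app K)).1 ?_⟩
  rw [zero_comp, Linear.smul_comp]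
  exact hn

theorem TV.of_triangle {T : Triangle (Dual.D A)} (hT : T ∈ distTriang (Dual.D A)) {t : ℤ}
    (h₁ : TV f P T.obj₁ t) (h₃ : TV f P T.obj₃ t) : TV f P T.obj₂ t := by
  intro ξ
  have hT' := Triangle.shift_distinguished T hT t
  let T' := (Triangle.shiftFunctor (Dual.D A) t).obj T
  obtain ⟨n, hn⟩ := h₃ (ξ ≫ T'.mor₂)
  obtain ⟨y, hy⟩ := Triangle.coyoneda_exact₂ T' hT' (f ^ n • ξ)
    ((Linear.smul_comp (R := A) _ _ _ (f ^ n) ξ T'.mor₂).trans hn)
  obtain ⟨m, hm⟩ := h₁ y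
  refine ⟨m + n, ?_⟩
  rw [pow_add, mul_smul]
  change f ^ m • (f ^ n • ξ : P ⟶ T'.obj₂) = 0
  rw [hy]
  exact (Linear.smul_comp (R := A) _ _ _ (f ^ m) y T'.mor₁).symm.trans ((congrArg (· ≫ T'.mor₁) hm).trans zero_comp)

theorem TV.of_subsingleton_module (H : Type u) [AddCommGroup H] [Module A H] [Subsingleton H] (t : ℤ) :
    TV f P (Dual.inD A H) t := by
  refine tv_of_zero fun ξ => (IsZero.eq_of_tgt ?_ _ _)
  have h0 : IsZero (Dual.inD A H) :=
    (DerivedCategory.singleFunctor (ModuleCat.{u} A) 0).map_isZero (ModuleCat.isZero_of_subsingleton _)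
  exact (CategoryTheory.shiftFunctor (Dual.D A) t).map_isZero h0

theorem TV.of_module_iso {H H' : Type u} [AddCommGroup H] [Module A H] [AddCommGroup H'] [Module A H']
    (e : H ≃ₗ[A] H') {t : ℤ} (h : TV f P (Dual.inD A H) t) : TV f P (Dual.inD A H') t :=
  h.of_iso ((DerivedCategory.singleFunctor (ModuleCat.{u} A) 0).mapIso e.toModuleIso)

/-- Dévissage along cohomology. -/
theorem TV.of_pieces (t : ℤ) : ∀ (k : ℕ) (X : Dual.D A) (b : ℤ),
    (∀ i, b < i → Subsingleton (Dual.HD A X i)) → (∀ i, i ≤ b - (k : ℤ) → Subsingleton (Dual.HD A X i)) →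
    (∀ j, TV f P (Dual.inD A (Dual.HD A X j)) (t - j)) → TV f P X t := by
  intro k
  induction k with
  | zero =>
    intro X b hb ha _
    refine tv_of_zero fun ξ => IsZero.eq_of_tgt ((CategoryTheory.shiftFunctor (Dual.D A) t).map_isZero
      (GrothLib.RGamma.isZero_of_subsingleton_HD fun i => ?_)) _ _
    by_cases hi : b < i
    · exact hb i hi
    · exact ha i (by push_cast; omega)
  | succ k ih =>
    intro X b hb ha hX
    obtain ⟨T, hT, rfl, ⟨e⟩, hlt, hge⟩ := GrothLib.DualRing.exists_top_triangle X b hb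
    refine TV.of_triangle hT (ih T.obj₁ (b - 1) (fun i hi => hge i (by omega)) (fun i hi => ?_) fun j => ?_) ?_
    · obtain ⟨g⟩ := hlt i (by omega)
      haveI := ha i (by push_cast at hi ⊢; omega)
      exact g.toEquiv.subsingleton
    · by_cases hj : j < b
      · obtain ⟨g⟩ := hlt j hj
        exact (hX j).of_module_iso g.symm
      · haveI := hge j (by omega)
        exact TV.of_subsingleton_module _ _
    · refine TV.of_iso e.symm (TV.shift (-b) t ?_)
      rw [show -b + t = t - b by omega]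
      exact hX b

section HomHn

variable (X : Dual.D A) (i : ℤ)

theorem homHn_smul (c : A) (φ : Dual.inD A A ⟶ X⟦i⟧) :
    GrothLib.DCpl.homHn (ModuleCat.of A A) X i (c • φ) = c • GrothLib.DCpl.homHn (ModuleCat.of A A) X i φ := by
  have h := GrothLib.DCpl.homHn_precomp (c • 𝟙 (ModuleCat.of A A)) φ
  rwa [Functor.map_smul, CategoryTheory.Functor.map_id, Linear.smul_comp, Category.id_comp, Linear.smul_comp,
    Category.id_comp] at h

theorem homHn_zero : GrothLib.DCpl.homHn (ModuleCat.of A A) X i 0 = 0 := by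
  have h := homHn_smul X i (0 : A) 0
  rwa [smul_zero, zero_smul] at h

theorem eq_zero_of_HD (hH : Subsingleton (Dual.HD A X i)) (φ : Dual.inD A A ⟶ X⟦i⟧) : φ = 0 := by
  haveI : Projective (ModuleCat.of A A) := (IsProjective.iff_projective (R := A) A).1 inferInstance
  refine (GrothLib.DCpl.homHn_bijective (ModuleCat.of A A) X i).1 ?_
  rw [homHn_zero]
  exact ModuleCat.hom_ext (LinearMap.ext fun _ => Subsingleton.elim (α := Dual.HD A X i) _ _)

theorem exists_smul_eq_zero_of_HD (c : A) (hH : ∀ x : Dual.HD A X i, ∃ n : ℕ, c ^ n • x = 0)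
    (φ : Dual.inD A A ⟶ X⟦i⟧) : ∃ n : ℕ, c ^ n • φ = 0 := by
  haveI : Projective (ModuleCat.of A A) := (IsProjective.iff_projective (R := A) A).1 inferInstance
  obtain ⟨n, hn⟩ := hH ((GrothLib.DCpl.homHn (ModuleCat.of A A) X i φ).hom 1)
  refine ⟨n, (GrothLib.DCpl.homHn_bijective (ModuleCat.of A A) X i).1 ?_⟩
  rw [homHn_zero, homHn_smul]
  exact ModuleCat.hom_ext (LinearMap.ext_ring hn)

/-- A divisible derived complete cohomology module receives no maps. -/
theorem eq_zero_of_divisible (g : A) (hX : GrothLib.DCpl.DCMod g (Dual.HD A X i))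
    (hdiv : ∀ φ : Dual.inD A A ⟶ X⟦i⟧, ∃ φ', φ = g • φ') (φ : Dual.inD A A ⟶ X⟦i⟧) : φ = 0 := by
  haveI : Projective (ModuleCat.of A A) := (IsProjective.iff_projective (R := A) A).1 inferInstance
  refine eq_zero_of_HD X i (subsingleton_of_forall_eq 0 fun x => ?_) φ
  have hstep : ∀ y : Dual.HD A X i, ∃ y' : Dual.HD A X i, y = g • y' := fun y => by
    obtain ⟨ψ, hψ⟩ := (GrothLib.DCpl.homHn_bijective (ModuleCat.of A A) X i).2
      (ModuleCat.ofHom (LinearMap.toSpanSingleton A _ y))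
    obtain ⟨ψ', rfl⟩ := hdiv ψ
    refine ⟨(GrothLib.DCpl.homHn (ModuleCat.of A A) X i ψ').hom 1, ?_⟩
    rw [homHn_smul] at hψ
    have h := ConcreteCategory.congr_hom hψ 1
    change g • (GrothLib.DCpl.homHn (ModuleCat.of A A) X i ψ').hom 1 = (1 : A) • y at h
    rw [one_smul] at h
    exact h.symm
  choose nx hnx using hstep
  exact hX.eq_zero (fun j => nx^[j] x) (fun j => by rw [Function.iterate_succ_apply']; exact hnx _) 0

end HomHn

variable [IsNoetherianRing A] (I : Ideal A) [DRing.HasRgammaI I]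

/-- `RΓ_I A`. -/
noncomputable abbrev gA : Dual.D A := (DRing.RgammaI I).obj (Dual.inD A A)

/-- Maps from `RΓ_I A` into a complete object come from `A`. -/
theorem exists_factor {X : Dual.D A} (hX : DRing.IsDerivedComplete I X) (t : ℤ) (ξ : gA I ⟶ X⟦t⟧) :
    ∃ φ : Dual.inD A A ⟶ X⟦t⟧, (DRing.RgammaIε I).app (Dual.inD A A) ≫ φ = ξ :=
  (GrothLib.RGamma.isCEquiv_ε I (Dual.inD A A) _ (GrothLib.RGamma.isDerivedComplete_shift I hX t)).2 ξ

theorem tv_of_complete {X : Dual.D A} (hX : DRing.IsDerivedComplete I X) (t : ℤ)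
    (hH : ∀ x : Dual.HD A X t, ∃ n : ℕ, f ^ n • x = 0) : TV f (gA I) X t := by
  intro ξ
  obtain ⟨φ, rfl⟩ := exists_factor I hX t ξ
  obtain ⟨n, hn⟩ := exists_smul_eq_zero_of_HD X t f hH φ
  exact ⟨n, by rw [← Linear.comp_smul, hn, comp_zero]⟩

theorem eq_zero_of_completion [DRing.HasDerivedCompletion I] (X : Dual.D A) (t : ℤ)
    (hH : Subsingleton (Dual.HD A ((DRing.derivedCompletion I).obj X).obj t)) (ξ : gA I ⟶ X⟦t⟧) : ξ = 0 := by
  refine ((isTorsEquiv_toDerivedCompletion I X).shift I t (gA I)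
    fun j => GrothLib.RGamma.isPowerTorsion_HD I _ j).1 ?_
  obtain ⟨φ, hφ⟩ := exists_factor I ((DRing.derivedCompletion I).obj X).property t
    (ξ ≫ (DRing.toDerivedCompletion I X)⟦t⟧')
  change ξ ≫ _ = (0 : gA I ⟶ X⟦t⟧) ≫ _
  rw [← hφ, eq_zero_of_HD _ t hH φ, comp_zero, zero_comp]

/-- No maps into a module in positive degrees. -/
theorem eq_zero_of_pos (H : Type u) [AddCommGroup H] [Module A H] (t : ℤ) (ht : 0 < t)
    (ξ : gA I ⟶ (Dual.inD A H)⟦t⟧) : ξ = 0 := by
  haveI : DRing.HasDerivedCompletion I := GrothLib.DCpl.hasDerivedCompletion I (IsNoetherian.noetherian I)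
  obtain ⟨s, hs⟩ : I.FG := IsNoetherian.noetherian I
  refine eq_zero_of_completion I _ t (GrothLib.DCpl.subsingleton_HD_completion I hs _ t fun k _ => ?_) ξ
  exact GrothLib.DR.subsingleton_HD_inD H _ (by omega)

/-- Degree bound on `RΓ_I A`. -/
theorem isLE_gA {d : ℕ} (hcd : LocCoh.CdLE A I d) : (gA I).IsLE d := by
  rw [DerivedCategory.isLE_iff]
  intro j hj
  obtain ⟨k, rfl⟩ := Int.eq_ofNat_of_zero_le (show 0 ≤ j by omega)
  haveI := hcd A k (by omega)
  obtain ⟨e⟩ := GrothLib.KillCompl3.nonempty_HD_rgamma I A k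
  haveI : Subsingleton (Dual.HD A (gA I) (k : ℤ)) := e.toEquiv.subsingleton
  exact ModuleCat.isZero_of_subsingleton _

theorem eq_zero_of_lt {d : ℕ} (hcd : LocCoh.CdLE A I d) (H : Type u) [AddCommGroup H] [Module A H] (t : ℤ)
    (ht : t < -(d : ℤ)) (ξ : gA I ⟶ (Dual.inD A H)⟦t⟧) : ξ = 0 := by
  haveI := isLE_gA I hcd
  haveI : (Dual.inD A H).IsGE 0 := by
    rw [DerivedCategory.isGE_iff]
    exact fun i hi => (GrothLib.DR.subsingleton_iff_isZero _).1 (GrothLib.DR.subsingleton_HD_inD H i (by omega))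
  haveI : DerivedCategory.IsGE ((Dual.inD A H)⟦t⟧) (-t) :=
    DerivedCategory.TStructure.t.isGE_shift (Dual.inD A H) 0 t (-t) (by omega)
  exact DerivedCategory.TStructure.t.zero_of_isLE_of_isGE ξ d (-t) (by omega) inferInstance (by assumption)

/-- Divisible modules receive no maps in degree zero. -/
theorem eq_zero_of_divisible_module (g : A) (hg : g ∈ I) (H : Type u) [AddCommGroup H] [Module A H]
    (hH : Function.Surjective fun x : H => g • x) (ξ : gA I ⟶ (Dual.inD A H)⟦(0 : ℤ)⟧) : ξ = 0 := by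
  haveI : DRing.HasDerivedCompletion I := GrothLib.DCpl.hasDerivedCompletion I (IsNoetherian.noetherian I)
  let F := DerivedCategory.singleFunctor (ModuleCat.{u} A) 0
  let L := LinearMap.lsmul A H g
  let S : ShortComplex (ModuleCat.{u} A) :=
    ShortComplex.mk (ModuleCat.ofHom (LinearMap.ker L).subtype) (ModuleCat.ofHom L)
      (ModuleCat.hom_ext (LinearMap.ext fun x => x.2))
  have hS : S.ShortExact :=
    { exact := (ShortComplex.moduleCat_exact_iff _).2 fun x hx => ⟨⟨x, hx⟩, rfl⟩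
      mono_f := (ModuleCat.mono_iff_injective _).2 Subtype.val_injective
      epi_g := (ModuleCat.epi_iff_surjective _).2 hH }
  have hmul : ModuleCat.ofHom L = g • 𝟙 (ModuleCat.of A H) := ModuleCat.hom_ext (LinearMap.ext fun x => rfl)
  let T := hS.singleTriangle
  have hdiv : ∀ ζ : gA I ⟶ (Dual.inD A H)⟦(0 : ℤ)⟧, ∃ ζ', ζ = g • ζ' := by
    intro ζ
    have hT' := Triangle.shift_distinguished T hS.singleTriangle_distinguished 0
    let T' := (Triangle.shiftFunctor (Dual.D A) (0 : ℤ)).obj T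
    have hK : ∀ z : gA I ⟶ (Dual.inD A (LinearMap.ker L))⟦(0 : ℤ)⟧⟦(1 : ℤ)⟧, z = 0 := fun z => by
      refine (cancel_mono ((shiftFunctorAdd (Dual.D A) (0 : ℤ) 1).inv.app _)).1 ?_
      rw [zero_comp]
      exact eq_zero_of_pos I _ _ (by norm_num) _
    obtain ⟨y, hy⟩ := Triangle.coyoneda_exact₃ T' hT' ζ (hK _)
    refine ⟨y, hy.trans ?_⟩
    have hm : T'.mor₂ = g • 𝟙 ((Dual.inD A H)⟦(0 : ℤ)⟧) := by
      change ((0 : ℤ).negOnePow : ℤ) • (F.map (ModuleCat.ofHom L))⟦(0 : ℤ)⟧' = _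
      rw [hmul, F.map_smul, F.map_id, Functor.map_smul, CategoryTheory.Functor.map_id]
      simp
      rfl
    rw [hm]
    exact (Linear.comp_smul _ _ _ y g (𝟙 _)).trans (congrArg (g • ·) (Category.comp_id y))
  have hε := GrothLib.RGamma.isCEquiv_ε I (Dual.inD A A) _ (GrothLib.RGamma.isDerivedComplete_shift I
    ((DRing.derivedCompletion I).obj (Dual.inD A H)).property 0)
  have hc := (isTorsEquiv_toDerivedCompletion I (Dual.inD A H)).shift I 0 (gA I)
    fun j => GrothLib.RGamma.isPowerTorsion_HD I _ j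
  obtain ⟨φ, hφ⟩ := hε.2 (ξ ≫ (DRing.toDerivedCompletion I (Dual.inD A H))⟦(0 : ℤ)⟧')
  change (DRing.RgammaIε I).app (Dual.inD A A) ≫ φ = _ at hφ
  refine hc.1 ?_
  change ξ ≫ _ = (0 : gA I ⟶ (Dual.inD A H)⟦(0 : ℤ)⟧) ≫ _
  rw [← hφ, zero_comp, eq_zero_of_divisible ((DRing.derivedCompletion I).obj (Dual.inD A H)).obj 0 g
    ((GrothLib.DCpl.isDerivedComplete_iff I _).1 ((DRing.derivedCompletion I).obj (Dual.inD A H)).property g hg 0)
    (fun φ => ?_) φ, comp_zero]
  obtain ⟨w, hw⟩ := hc.2 ((DRing.RgammaIε I).app (Dual.inD A A) ≫ φ)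
  obtain ⟨w', rfl⟩ := hdiv w
  obtain ⟨φ', hφ'⟩ := hε.2 (w' ≫ (DRing.toDerivedCompletion I (Dual.inD A H))⟦(0 : ℤ)⟧')
  refine ⟨φ', hε.1 ?_⟩
  change _ ≫ φ = _ ≫ (g • φ')
  rw [Linear.comp_smul, show (DRing.RgammaIε I).app (Dual.inD A A) ≫ φ' = _ from hφ', ← hw]
  exact Linear.smul_comp _ _ _ g w' _

variable (I' : Ideal A) [DRing.HasRgammaI I']

/-- Objects complete along `r` see `I` only through `I + r`. -/
theorem subsingleton_hom_of_sup (r : Ideal A) (h : I ⊔ r ≤ (I' ⊔ r).radical) (h' : I' ⊔ r ≤ (I ⊔ r).radical)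
    (L : Dual.D A) (hL : DRing.IsDerivedComplete r L) (hs : Subsingleton (gA I' ⟶ L)) :
    Subsingleton (gA I ⟶ L) := by
  haveI := hasRgammaI r
  haveI := hasRgammaI (I ⊔ r)
  haveI := hasRgammaI (I' ⊔ r)
  obtain ⟨e₁⟩ := GrothLib.RGamma.comp_iso_sup I r (Dual.inD A A)
  obtain ⟨e₂, -⟩ := nonempty_rgamma_iso (I ⊔ r) (I' ⊔ r) h h' (Dual.inD A A)
  obtain ⟨e₃⟩ := GrothLib.RGamma.comp_iso_sup I' r (Dual.inD A A)
  have hb := GrothLib.RGamma.isCEquiv_ε r (gA I') L hL
  haveI : Subsingleton ((𝟭 (Dual.D A)).obj (gA I') ⟶ L) := hs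
  haveI : Subsingleton ((DRing.RgammaI r).obj (gA I') ⟶ L) := hb.2.subsingleton
  haveI : Subsingleton ((DRing.RgammaI r).obj (gA I) ⟶ L) :=
    ((e₁ ≪≫ e₂ ≪≫ e₃.symm).homFromEquiv (Z := L)).subsingleton
  exact (GrothLib.RGamma.isCEquiv_ε r (gA I) L hL).1.subsingleton

omit [IsNoetherianRing A] in
theorem isDerivedComplete_of_killed (r : Ideal A) (H : Type u) [AddCommGroup H] [Module A H]
    (hH : ∀ a ∈ r, ∀ x : H, a • x = 0) : DRing.IsDerivedComplete r (Dual.inD A H) :=
  (GrothLib.DCpl.isDerivedComplete_inD_iff r H).2 fun a ha => GrothLib.FSecDual7.dcMod_of_smul_eq_zero (hH a ha)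

/-- Maps from the top degree of `RΓ_{I'} A`. -/
theorem eq_zero_top (r : Ideal A) (H : Type u) [AddCommGroup H] [Module A H] (hH : ∀ a ∈ r, ∀ x : H, a • x = 0)
    (c : ℕ) (hcd : LocCoh.CdLE A I' c) (htop : Subsingleton (LocCoh.H I' c (A ⧸ r)))
    (ξ : gA I' ⟶ (Dual.inD A H)⟦-(c : ℤ)⟧) : ξ = 0 := by
  haveI := isLE_gA I' hcd
  obtain ⟨T, hT, h2, ⟨e⟩, -, hge⟩ := GrothLib.DualRing.exists_top_triangle (gA I') (c : ℤ) fun i hi =>
    ModuleCat.subsingleton_of_isZero (DerivedCategory.isZero_of_isLE (gA I') (c : ℤ) i hi)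
  haveI : T.obj₁.IsLE ((c : ℤ) - 1) := by
    rw [DerivedCategory.isLE_iff]
    exact fun i hi => (GrothLib.DR.subsingleton_iff_isZero _).1 (hge i (by omega))
  haveI : (Dual.inD A H).IsGE 0 := by
    rw [DerivedCategory.isGE_iff]
    exact fun i hi => (GrothLib.DR.subsingleton_iff_isZero _).1 (GrothLib.DR.subsingleton_HD_inD H i (by omega))
  haveI : DerivedCategory.IsGE ((Dual.inD A H)⟦-(c : ℤ)⟧) (c : ℤ) :=
    DerivedCategory.TStructure.t.isGE_shift (Dual.inD A H) 0 (-(c : ℤ)) (c : ℤ) (by omega)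
  obtain ⟨η, hη⟩ := Triangle.yoneda_exact₂ T hT (eqToHom h2 ≫ ξ)
    (DerivedCategory.TStructure.t.zero_of_isLE_of_isGE _ ((c : ℤ) - 1) (c : ℤ) (by omega) inferInstance (by assumption))
  let Q := Dual.HD A (gA I') (c : ℤ)
  obtain ⟨ψ, hψ⟩ := (DerivedCategory.singleFunctor (ModuleCat.{u} A) 0).map_surjective
    ((CategoryTheory.shiftFunctor (Dual.D A) (-(c : ℤ))).preimage (e.inv ≫ η))
  have hQ : (r • ⊤ : Submodule A (LocCoh.H I' c A)) = ⊤ := by
    let Φ := (TensorProduct.tensorQuotEquivQuotSMul (LocCoh.H I' c A) r).symm.trans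
      (GrothLib.LC.topEquiv I' c hcd (ModuleCat.of A (A ⧸ r)))
    haveI : Subsingleton ((localCohomology I' c).obj (ModuleCat.of A (A ⧸ r))) := htop
    haveI : Subsingleton (LocCoh.H I' c A ⧸ (r • ⊤ : Submodule A (LocCoh.H I' c A))) := Φ.toEquiv.subsingleton
    exact Submodule.Quotient.subsingleton_iff.1 inferInstance
  obtain ⟨e'⟩ := GrothLib.KillCompl3.nonempty_HD_rgamma I' A c
  have hψ0 : ψ = 0 := ModuleCat.hom_ext (LinearMap.ext fun y => by
    obtain ⟨x, rfl⟩ := e'.symm.surjective y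
    have hx : x ∈ (r • ⊤ : Submodule A (LocCoh.H I' c A)) := by rw [hQ]; trivial
    induction hx using Submodule.smul_induction_on' with
    | smul a ha z _ => rw [map_smul, map_smul, hH a ha]; rfl
    | add x hx y hy h1 h2 => rw [map_add, map_add, h1, h2]; exact (map_add _ _ _).symm)
  rw [hψ0, Functor.map_zero] at hψ
  have hη0 : η = 0 := by
    have h3 : e.inv ≫ η = 0 := by
      rw [← (CategoryTheory.shiftFunctor (Dual.D A) (-(c : ℤ))).map_preimage (e.inv ≫ η), ← hψ, Functor.map_zero]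
    exact (cancel_epi e.inv).1 (h3.trans comp_zero.symm)
  rw [hη0, comp_zero] at hη
  exact (cancel_epi (eqToHom h2)).1 (hη.trans comp_zero.symm)

section Leaf

variable [IsLocalRing A] [IsAdicComplete I A] {E : Type u} [AddCommGroup E] [Module A E]
  {φ₀ : IsLocalRing.ResidueField A →ₗ[A] E} (hE : InjHull.IsInjectiveHull φ₀)

/-- The numerical condition at a prime. -/
def Cond (f : A) (d : ℕ) (t : ℤ) (r : PrimeSpectrum A) : Prop :=
  f ∉ r.asIdeal → ¬ I ≤ r.asIdeal → t < 0 → -(d : ℤ) ≤ t →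
    ∃ c : ℕ, ringKrullDim (A ⧸ r.asIdeal) = c ∧ (c : ℤ) ≤ -t ∧
      ∃ q : PrimeSpectrum A, r ≤ q ∧ I ≤ q.asIdeal ∧ q.asIdeal ≠ IsLocalRing.maximalIdeal A

include hE in
theorem tv_leaf (hI : I ≤ IsLocalRing.maximalIdeal A) {d : ℕ} (hcd : LocCoh.CdLE A I d)
    (hf : f ∈ IsLocalRing.maximalIdeal A) (t : ℤ) (r : PrimeSpectrum A) (h : Cond I f d t r) :
    TV f (gA I) (Dual.inD A ((A ⧸ r.asIdeal) →ₗ[A] E)) t := by
  let H := (A ⧸ r.asIdeal) →ₗ[A] E
  have hkill : ∀ a ∈ r.asIdeal, ∀ x : H, a • x = 0 := fun a ha x => LinearMap.ext fun z => by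
    rw [LinearMap.smul_apply, ← map_smul, LinearMap.zero_apply]
    obtain ⟨z, rfl⟩ := Ideal.Quotient.mk_surjective z
    rw [show a • Ideal.Quotient.mk r.asIdeal z = Ideal.Quotient.mk r.asIdeal (a * z) from rfl,
      Ideal.Quotient.eq_zero_iff_mem.2 (Ideal.mul_mem_right z _ ha), map_zero]
  by_cases hfr : f ∈ r.asIdeal
  · intro ξ
    refine ⟨1, ?_⟩
    have h1 : f • 𝟙 (ModuleCat.of A H) = 0 := ModuleCat.hom_ext (LinearMap.ext fun x => hkill f hfr x)
    have h2 : f • 𝟙 ((Dual.inD A H)⟦t⟧) = 0 := by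
      change f • 𝟙 (((DerivedCategory.singleFunctor (ModuleCat.{u} A) 0).obj (ModuleCat.of A H))⟦t⟧) = 0
      rw [← CategoryTheory.Functor.map_id, ← CategoryTheory.Functor.map_id, ← Functor.map_smul, ← Functor.map_smul,
        h1, Functor.map_zero, Functor.map_zero]
    rw [pow_one, ← Category.comp_id ξ, ← Linear.comp_smul, h2, comp_zero]
  rcases lt_trichotomy t 0 with ht | ht | ht
  rotate_left
  · subst ht
    by_cases hIr : I ≤ r.asIdeal
    · refine tv_of_complete I (isDerivedComplete_of_killed I H fun a ha => hkill a (hIr ha)) 0 fun x => ?_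
      let e := ((DerivedCategory.singleFunctorCompHomologyFunctorIso (ModuleCat.{u} A) 0).app
        (ModuleCat.of A H)).toLinearEquiv
      obtain ⟨n, hn⟩ := isPowerTorsion_hom_finite (GrothLib.Matlis.isPowerTorsion_of_hull hE) (A ⧸ r.asIdeal) (e x)
      refine ⟨n, e.injective ?_⟩
      rw [map_smul, map_zero]
      exact hn _ (Ideal.pow_mem_pow hf n)
    · obtain ⟨g, hgI, hgr⟩ := SetLike.not_le_iff_exists.1 hIr
      refine tv_of_zero fun ξ => eq_zero_of_divisible_module I g hgI H (fun ψ => ?_) ξ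
      have hinj : Function.Injective (LinearMap.lsmul A (A ⧸ r.asIdeal) g) := by
        rw [injective_iff_map_eq_zero]
        intro z hz
        obtain ⟨z, rfl⟩ := Ideal.Quotient.mk_surjective z
        change Ideal.Quotient.mk r.asIdeal (g * z) = 0 at hz
        rw [Ideal.Quotient.eq_zero_iff_mem] at hz ⊢
        exact (r.2.mem_or_mem hz).resolve_left hgr
      obtain ⟨ψ', hψ'⟩ := GrothLib.Matlis.lcomp_surjective hE.isInjective
        (LinearMap.lsmul A (A ⧸ r.asIdeal) g) hinj ψ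
      refine ⟨ψ', LinearMap.ext fun z => ?_⟩
      rw [← hψ']
      exact (map_smul ψ' g z).symm
  · exact tv_of_zero fun ξ => eq_zero_of_pos I H t ht ξ
  by_cases hd : t < -(d : ℤ)
  · exact tv_of_zero fun ξ => eq_zero_of_lt I hcd H t hd ξ
  by_cases hIr : I ≤ r.asIdeal
  · refine tv_of_complete I (isDerivedComplete_of_killed I H fun a ha => hkill a (hIr ha)) t fun x => ?_
    haveI := GrothLib.DR.subsingleton_HD_inD (A := A) H t (by omega)
    exact ⟨0, Subsingleton.elim _ _⟩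
  obtain ⟨c, hc, hct, q, hrq, hIq, hqm⟩ := h hfr hIr ht (by omega)
  obtain ⟨s, hsc, hsI, hsr⟩ := GrothLib.FSecDual7.exists_small_generators I r.asIdeal hI c hc.le
  let I' : Ideal A := Ideal.span (s : Set A)
  haveI := hasRgammaI I'
  have hcd' : LocCoh.CdLE A I' c := fun M _ _ i hi => GrothLib.LC.cdLE_card s M i (by omega)
  have hI'I : I' ≤ I := Ideal.span_le.2 hsI
  refine tv_of_zero fun ξ => ?_
  haveI := subsingleton_hom_of_sup I I' r.asIdeal (sup_le hsr (le_sup_right.trans Ideal.le_radical))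
    ((sup_le_sup_right hI'I _).trans Ideal.le_radical) _
    (GrothLib.RGamma.isDerivedComplete_shift r.asIdeal (isDerivedComplete_of_killed r.asIdeal H hkill) t)
    (by
      refine subsingleton_of_forall_eq 0 fun ζ => ?_
      rcases hct.lt_or_eq with hlt | heq
      · exact eq_zero_of_lt I' hcd' H t (by omega) ζ
      · obtain rfl : t = -(c : ℤ) := by omega
        refine eq_zero_top I' r.asIdeal H hkill c hcd' ?_ ζ
        refine subsingleton_top I r.asIdeal q.asIdeal hrq hIq hqm c hc I' fun P hP hrP => ⟨fun hle => hI'I.trans hle,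
          fun hle => ?_⟩
        exact hsr.trans ((Ideal.IsPrime.radical_le_iff hP).2 (sup_le hle hrP)))
  exact Subsingleton.elim _ _

include hE in
theorem exists_primes (hI : I ≤ IsLocalRing.maximalIdeal A) {d : ℕ} (hcd : LocCoh.CdLE A I d)
    (N : Type u) [AddCommGroup N] [Module A N] [Module.Finite A N] :
    ∃ S : Finset (PrimeSpectrum A), (∀ r ∈ S, r ∈ Module.support A N) ∧
      ∀ f ∈ IsLocalRing.maximalIdeal A, ∀ t : ℤ, (∀ r ∈ S, Cond I f d t r) →
        TV f (gA I) (Dual.inD A (N →ₗ[A] E)) t := by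
  classical
  refine IsNoetherianRing.induction_on_isQuotientEquivQuotientPrime A (M := N) inferInstance
    (motive := fun N _ _ _ => ∃ S : Finset (PrimeSpectrum A), (∀ r ∈ S, r ∈ Module.support A N) ∧
      ∀ f ∈ IsLocalRing.maximalIdeal A, ∀ t : ℤ, (∀ r ∈ S, Cond I f d t r) →
        TV f (gA I) (Dual.inD A (N →ₗ[A] E)) t)
    ?_ ?_ ?_
  · intro N _ _ _ _
    refine ⟨∅, fun r hr => absurd hr (Finset.notMem_empty r), fun f _ t _ => ?_⟩
    haveI : Subsingleton (N →ₗ[A] E) := ⟨fun a b => LinearMap.ext fun x => by rw [Subsingleton.elim x 0, map_zero, map_zero]⟩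
    exact TV.of_subsingleton_module _ _
  · intro N _ _ _ p e
    refine ⟨{p}, fun r hr => ?_, fun f hf t h =>
      (tv_leaf I hE hI hcd hf t p (h p (Finset.mem_singleton_self p))).of_module_iso (e.congrLeft E A).symm⟩
    rw [Finset.mem_singleton.1 hr]
    rw [Module.mem_support_iff_of_finite]
    refine le_trans ?_ (le_refl p.asIdeal)
    intro a ha
    rw [Module.mem_annihilator] at ha
    have h1 : a • (Ideal.Quotient.mk p.asIdeal 1) = 0 := by
      have h2 := congrArg e (ha (e.symm (Ideal.Quotient.mk p.asIdeal 1)))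
      rwa [map_smul, e.apply_symm_apply, map_zero] at h2
    have h3 : Ideal.Quotient.mk p.asIdeal (a * 1) = 0 := h1
    rwa [mul_one, Ideal.Quotient.eq_zero_iff_mem] at h3
  · intro N₁ _ _ _ N₂ _ _ _ N₃ _ _ _ u v hu hv he ⟨S₁, hS₁, h₁⟩ ⟨S₃, hS₃, h₃⟩
    refine ⟨S₁ ∪ S₃, fun r hr => ?_, fun f hf t h => ?_⟩
    · rcases Finset.mem_union.1 hr with hr | hr
      · exact Module.support_subset_of_injective u hu (hS₁ r hr)
      · exact Module.support_subset_of_surjective v hv (hS₃ r hr)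
    let S : ShortComplex (ModuleCat.{u} A) :=
      ShortComplex.mk (ModuleCat.ofHom (v.lcomp A E)) (ModuleCat.ofHom (u.lcomp A E))
        (ModuleCat.hom_ext (LinearMap.ext fun ψ => LinearMap.ext fun x => by
          change ψ (v (u x)) = 0
          rw [he.apply_apply_eq_zero, map_zero]))
    have hS : S.ShortExact :=
      { exact := (ShortComplex.moduleCat_exact_iff _).2 fun (ψ : N₂ →ₗ[A] E) hψ => by
          have hle : LinearMap.ker v ≤ LinearMap.ker ψ := fun x hx => by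
            obtain ⟨y, rfl⟩ := (he x).1 (LinearMap.mem_ker.1 hx)
            exact LinearMap.congr_fun hψ y
          obtain ⟨χ, hχ⟩ : ∃ χ : N₃ →ₗ[A] E, χ ∘ₗ v = ψ :=
            ⟨((LinearMap.ker v).liftQ ψ hle) ∘ₗ (v.quotKerEquivOfSurjective hv).symm.toLinearMap,
              LinearMap.ext fun x => by
                simp only [LinearMap.coe_comp, LinearEquiv.coe_coe, Function.comp_apply]
                rw [show (v.quotKerEquivOfSurjective hv).symm (v x) = Submodule.Quotient.mk x from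
                  (v.quotKerEquivOfSurjective hv).injective (by simp)]
                rfl⟩
          exact ⟨χ, hχ⟩
        mono_f := (ModuleCat.mono_iff_injective _).2 fun a b hab => LinearMap.ext fun y => by
          obtain ⟨x, rfl⟩ := hv y
          exact LinearMap.congr_fun hab x
        epi_g := (ModuleCat.epi_iff_surjective _).2 (GrothLib.Matlis.lcomp_surjective hE.isInjective u hu) }
    exact TV.of_triangle hS.singleTriangle_distinguished
      (h₃ f hf t fun r hr => h r (Finset.mem_union_right _ hr))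
      (h₁ f hf t fun r hr => h r (Finset.mem_union_left _ hr))

end Leaf

end GrothLib.DerComplBij3
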